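import Cfsg.Agent.Lib.Soft3.Fusion

/-!
The tower above a soft essential subgroup is rigid under the fusion system, so automorphisms extend to the base.

Owner: helper78.
-/

set_option autoImplicit false
set_option linter.style.haveILetI false
set_option linter.unusedSectionVars false

open scoped commutatorElement

namespace Cfsg.Agent.Lib.Soft3

open Cfsg Cfsg.FusionSystem Cfsg.Agent.Lib Cfsg.Agent.Lib.FS Cfsg.Agent.Lib.MaxClass

variable {Ω : Type*} [Group Ω] {S : Subgroup Ω} [Finite S] {p n : ℕ} [hp : Fact p.Prime] {F : FusionSystem S}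

theorem exists_FMap_of_conj {K : Subgroup ↥S} {R : Subgroup Ω} (h : F.IsConj (up K) R) :
    ∃ ψ : K →* ↥S, FMap F K ψ ∧ up ψ.range = R := by
  obtain ⟨φ, hφ, rfl⟩ := h
  let e : K ≃* up K := K.equivMapOfInjective S.subtype S.subtype_injective
  refine ⟨(φ.comp e.toMonoidHom).codRestrict S fun x => apply_mem hφ _, ⟨φ, hφ, fun x => rfl⟩, ?_⟩
  ext y
  constructor
  · rintro ⟨_, ⟨x, rfl⟩, rfl⟩
    exact ⟨e x, rfl⟩
  · rintro ⟨z, rfl⟩
    refine ⟨_, ⟨e.symm z, rfl⟩, ?_⟩
    show φ (e (e.symm z)) = φ z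
    rw [MulEquiv.apply_symm_apply]

omit [Finite S] in
theorem subgroupOf_up_eq (A : Subgroup Ω) (hA : A ≤ S) : up (A.subgroupOf S) = A := by
  rw [up, Subgroup.subgroupOf_map_subtype, inf_eq_left.2 hA]

variable (h : MC p n ↥S) (hp3 : 3 ≤ p) (hn : 5 ≤ n) (hS : IsPGroup p S) (hF : F.IsSaturated p)
variable {E₀ : Subgroup ↥S} (hess : F.IsEssential p (up E₀))
  (hab : ∀ a ∈ E₀, ∀ b ∈ E₀, a * b = b * a) (hc : Nat.card E₀ = p ^ 3)
  (hN : Nat.card (Subgroup.normalizer (E₀ : Set ↥S)) ≤ p ^ 4)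
include h hp3 hn hS hF hess hab hc hN

/-- Every conjugate is soft. -/
theorem s3_of_conj {E : Subgroup ↥S} (hE : F.IsConj (up E₀) (up E)) : S3 p E := by
  have hcard : Nat.card E = p ^ 3 := by rw [← card_up, isConj_card hE, card_up, hc]
  have hcomm : ∀ a ∈ E, ∀ b ∈ E, a * b = b * a := by
    obtain ⟨φ, hφ, hr⟩ := hE
    intro a ha b hb
    obtain ⟨⟨_, x, hx, rfl⟩, hxa⟩ := hr.ge ((mem_up a).2 ha)
    obtain ⟨⟨_, y, hy, rfl⟩, hyb⟩ := hr.ge ((mem_up b).2 hb)
    refine Subtype.ext ?_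
    show (a : Ω) * b = b * a
    rw [← hxa, ← hyb, ← map_mul, ← map_mul]
    exact congrArg φ (Subtype.ext (show (x : Ω) * y = y * x from congrArg Subtype.val (hab x hx y hy)))
  have hself : Subgroup.centralizer (E : Set ↥S) ≤ E := fun g hg => (mem_up g).1 (hess.1.2 _ hE
    (mem_centralizerIn'.2 ⟨g.2, by
      rintro _ ⟨e, he, rfl⟩
      have := congrArg Subtype.val (Subgroup.mem_centralizer_iff.1 hg e he)
      simp only [Subgroup.coe_mul] at this
      rw [Subgroup.coe_subtype, ← this, mul_inv_cancel_right]⟩))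
  refine ⟨⟨hcomm, hself, hcard⟩, ?_⟩
  have hle : Nat.card (Subgroup.normalizer (E : Set ↥S)) ≤ p ^ 4 := by
    refine le_trans ?_ hN
    rw [← card_up, ← card_up (Subgroup.normalizer (E₀ : Set ↥S)), normalizer_up, normalizer_up]
    exact hess.2.1.2 _ hE
  have hne : E ≠ ⊤ := fun he => by
    rw [he, Subgroup.card_top, h.card] at hcard
    have := Nat.pow_right_injective hp.out.two_le hcard
    omega
  obtain ⟨g, -, hgE, hgN⟩ := Fgs55.exists_normalizing h.isPGroup (le_top : E ≤ ⊤) hne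
  obtain ⟨i, hi⟩ := IsPGroup.iff_card.1 (h.isPGroup.to_subgroup (Subgroup.normalizer (E : Set ↥S)))
  have hlt : p ^ 3 < p ^ i := by
    rw [← hcard, ← hi]
    exact lt_of_le_of_ne (Subgroup.card_le_of_le Subgroup.le_normalizer) fun he => hgE
      ((Subgroup.eq_of_le_of_card_ge Subgroup.le_normalizer he.ge).ge hgN)
  rw [hi, Nat.pow_le_pow_iff_right hp.out.one_lt] at hle
  rw [Nat.pow_lt_pow_iff_right hp.out.one_lt] at hlt
  have h1 := (E.subgroupOf (Subgroup.normalizer (E : Set ↥S))).card_mul_index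
  rw [Nat.card_congr (Subgroup.subgroupOfEquivOfLe Subgroup.le_normalizer).toEquiv, hcard, hi,
    show i = 3 + 1 by omega, pow_succ p 3] at h1
  exact Nat.eq_of_mul_eq_mul_left (pow_pos hp.out.pos 3) h1

theorem conj_refl' : F.IsConj (up E₀) (up E₀) := isConj_refl F (up_le E₀)

/-- The tower is preserved. -/
theorem tower_inv : ∀ k j, j + k = n - 3 → 2 ≤ j → ∀ E : Subgroup ↥S, F.IsConj (up E₀) (up E) →
    ∀ ψ : ↥(E ⊔ P ↥S j) →* ↥S, FMap F _ ψ →
      ψ.range = img ψ E ⊔ P ↥S j ∧ ∀ i, j ≤ i → i ≤ n - 3 → img ψ (P ↥S i) = P ↥S i := by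
  intro k
  induction k with
  | zero => ?_
  | succ k ih => ?_
  all_goals
    intro j hjk hj E hE ψ hψ
    have hjn : j ≤ n - 3 := by omega
    have hs := s3_of_conj h hp3 hn hS hF hess hab hc hN hE
    have hE' : F.IsConj (up E₀) (up (img ψ E)) := isConj_trans hE (hψ.isConj_img le_sup_left)
    have hs' := s3_of_conj h hp3 hn hS hF hess hab hc hN hE'
  -- the image of the top
  · obtain rfl : j = n - 3 := by omega
    have hr : ψ.range = img ψ E ⊔ P ↥S (n - 3) := by
      refine Subgroup.eq_of_le_of_card_ge ?_ ?_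
      · rw [← hs'.normalizer_eq h hp3 hn]
        rintro _ ⟨x, rfl⟩
        refine img_normalizer le_sup_left ?_
        rw [hs.normalizer_eq h hp3 hn]
        exact x.2
      · rw [← img_self (ψ := ψ), hψ.card_img le_rfl, hs.card_sup h hp3 hn hj le_rfl,
          hs'.card_sup h hp3 hn hj le_rfl]
    refine ⟨hr, fun i hi hi' => ?_⟩
    obtain rfl : i = n - 3 := by omega
    by_contra hne
    have hW : img ψ (E ⊓ P ↥S 2) = img ψ E ⊓ P ↥S 2 := by
      refine Subgroup.eq_of_le_of_card_ge ?_ ?_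
      · refine ((img_mono (hs.inf_eq_center h hp3 hn).ge).trans (img_inf_centralizer_le ?_)).trans ?_
        · rw [hs.normalizer_eq h hp3 hn]
        · rw [show img ψ (Subgroup.normalizer (E : Set ↥S)) = ψ.range by
            rw [hs.normalizer_eq h hp3 hn, img_self], hr, ← hs'.normalizer_eq h hp3 hn,
            hs'.inf_eq_center h hp3 hn]
      · rw [hψ.card_img (inf_le_left.trans le_sup_left), hs.card_inf h hp3 hn, hs'.card_inf h hp3 hn]
    obtain ⟨g, hg⟩ := hs'.exists_conj_le h hp3 hn hj le_rfl (M := img ψ (P ↥S (n - 3)))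
      (hr ▸ img_le_range _) (hψ.card_img le_sup_right) hne
      (fun _ => hW ▸ img_mono (hs.inf_two_le h hp3 hn)) (fun hlt => absurd hlt (lt_irrefl _))
    -- a conjugate of `E` inside `P 2`
    set C := (img ψ E).map (MulAut.conj g).toMonoidHom with hC
    have hCc : F.IsConj (up E₀) (up C) := by
      refine isConj_trans hE' ?_
      have := isConj_conj F (up_le (img ψ E)) g.2
      rwa [show (up (img ψ E)).map (MulAut.conj (g : Ω)).toMonoidHom = up C by
        rw [hC, up, up, Subgroup.map_map, Subgroup.map_map]; rfl] at this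
    let A : Subgroup ↥S := ((C.comap ψ) ⊓ (P ↥S (n - 3)).subgroupOf _).map (E ⊔ P ↥S (n - 3)).subtype
    have hAle : A ≤ P ↥S (n - 3) := by rintro _ ⟨x, hx, rfl⟩; exact hx.2
    have hAC : img ψ A = C := by
      refine le_antisymm ?_ fun c hc => ?_
      · rintro _ ⟨x, ⟨y, hy, hyx⟩, rfl⟩
        rw [show x = y from Subtype.ext hyx.symm]
        exact hy.1
      · obtain ⟨x, hx, rfl⟩ := hg hc
        exact ⟨x, ⟨x, ⟨hc, hx⟩, rfl⟩, rfl⟩
    have hAc : F.IsConj (up E₀) (up A) :=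
      isConj_trans hCc (isConj_symm (hAC ▸ hψ.isConj_img (hAle.trans le_sup_right)))
    exact (s3_of_conj h hp3 hn hS hF hess hab hc hN hAc).not_le_two h hp3 hn (hAle.trans (P_anti (by omega)))
  · have hle : E ⊔ P ↥S (j + 1) ≤ E ⊔ P ↥S j := sup_le_sup_left (P_succ_le j) E
    obtain ⟨ihr, ihP⟩ := ih (j + 1) (by omega) (by omega) E hE _ (hψ.restrict hle)
    rw [range_restrict_eq, img_restrict hle le_sup_left] at ihr
    have ihP' : ∀ i, j + 1 ≤ i → i ≤ n - 3 → img ψ (P ↥S i) = P ↥S i := fun i hi hi' => by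
      rw [← img_restrict hle ((P_anti hi).trans le_sup_right), ihP i hi hi']
    have hr : ψ.range = img ψ E ⊔ P ↥S j := by
      refine Subgroup.eq_of_le_of_card_ge ?_ ?_
      · have := hs'.normalizer_sup h hp3 hn (j := j + 1) (by omega) (by omega)
        rw [Nat.add_sub_cancel] at this
        rw [← this, ← ihr]
        rintro _ ⟨x, rfl⟩
        refine img_normalizer hle ?_
        have := hs.normalizer_sup h hp3 hn (j := j + 1) (by omega) (by omega)
        rw [Nat.add_sub_cancel] at this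
        rw [this]
        exact x.2
      · rw [← img_self (ψ := ψ), hψ.card_img le_rfl, hs.card_sup h hp3 hn hj hjn,
          hs'.card_sup h hp3 hn hj hjn]
    refine ⟨hr, fun i hi hi' => ?_⟩
    rcases Nat.eq_or_lt_of_le hi with rfl | hlt
    swap
    · exact ihP' i hlt hi'
    by_contra hne
    obtain ⟨g, hg⟩ := hs'.exists_conj_le h hp3 hn hj hjn (M := img ψ (P ↥S j))
      (hr ▸ img_le_range _) (hψ.card_img le_sup_right) hne
      (fun hb => by omega) (fun _ => (ihP' (j + 1) le_rfl (by omega)).ge.trans (img_mono (P_succ_le j)))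
    set C := (img ψ E).map (MulAut.conj g).toMonoidHom with hC
    have hCc : F.IsConj (up E₀) (up C) := by
      refine isConj_trans hE' ?_
      have := isConj_conj F (up_le (img ψ E)) g.2
      rwa [show (up (img ψ E)).map (MulAut.conj (g : Ω)).toMonoidHom = up C by
        rw [hC, up, up, Subgroup.map_map, Subgroup.map_map]; rfl] at this
    let A : Subgroup ↥S := ((C.comap ψ) ⊓ (P ↥S j).subgroupOf _).map (E ⊔ P ↥S j).subtype
    have hAle : A ≤ P ↥S j := by rintro _ ⟨x, hx, rfl⟩; exact hx.2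
    have hAC : img ψ A = C := by
      refine le_antisymm ?_ fun c hc => ?_
      · rintro _ ⟨x, ⟨y, hy, hyx⟩, rfl⟩
        rw [show x = y from Subtype.ext hyx.symm]
        exact hy.1
      · obtain ⟨x, hx, rfl⟩ := hg hc
        exact ⟨x, ⟨x, ⟨hc, hx⟩, rfl⟩, rfl⟩
    have hAc : F.IsConj (up E₀) (up A) :=
      isConj_trans hCc (isConj_symm (hAC ▸ hψ.isConj_img (hAle.trans le_sup_right)))
    exact (s3_of_conj h hp3 hn hS hF hess hab hc hN hAc).not_le_two h hp3 hn (hAle.trans (P_anti (by omega)))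

/-- The tower above `E₀` consists of fully normalised subgroups. -/
theorem fullyNormalized_sup {j : ℕ} (hj : 2 ≤ j) (hjn : j ≤ n - 3) :
    F.IsFullyNormalized (up (E₀ ⊔ P ↥S j)) := by
  refine ⟨up_le _, fun R hR => ?_⟩
  have hs := s3_of_conj h hp3 hn hS hF hess hab hc hN (conj_refl' h hp3 hn hS hF hess hab hc hN)
  obtain ⟨ψ, hψ, rfl⟩ := exists_FMap_of_conj hR
  have hE' : F.IsConj (up E₀) (up (img ψ E₀)) := hψ.isConj_img le_sup_left
  have hs' := s3_of_conj h hp3 hn hS hF hess hab hc hN hE'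
  obtain ⟨hr, -⟩ := tower_inv h hp3 hn hS hF hess hab hc hN (n - 3 - j) j (by omega) hj E₀
    (conj_refl' h hp3 hn hS hF hess hab hc hN) ψ hψ
  rw [← normalizer_up, ← normalizer_up, card_up, card_up, hr]
  rcases Nat.lt_or_ge j 3 with h3 | h3
  · obtain rfl : j = 2 := by omega
    rw [hs.normalizer_sup_two h hp3 hn, hs'.normalizer_sup_two h hp3 hn]
  · rw [hs.normalizer_sup h hp3 hn h3 hjn, hs'.normalizer_sup h hp3 hn h3 hjn,
      hs.card_sup h hp3 hn (by omega) (by omega), hs'.card_sup h hp3 hn (by omega) (by omega)]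

/-- An automorphism of a tower member extends to the next one. -/
theorem extend_step {j : ℕ} (hj : 2 ≤ j) (hjn : j ≤ n - 3) {ψ : ↥(E₀ ⊔ P ↥S j) →* ↥S} (hψ : FMap F _ ψ)
    (hr : ψ.range = E₀ ⊔ P ↥S j) :
    ∃ ψ' : ↥(Subgroup.normalizer ((E₀ ⊔ P ↥S j : Subgroup ↥S) : Set ↥S)) →* ↥S, FMap F _ ψ' ∧
      ψ'.range = Subgroup.normalizer ((E₀ ⊔ P ↥S j : Subgroup ↥S) : Set ↥S) ∧
      ∀ x : ↥(E₀ ⊔ P ↥S j), ψ' ⟨x, Subgroup.le_normalizer x.2⟩ = ψ x := by
  classical
  set K := E₀ ⊔ P ↥S j with hK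
  have hrefl := conj_refl' h hp3 hn hS hF hess hab hc hN
  have hs := s3_of_conj h hp3 hn hS hF hess hab hc hN hrefl
  obtain ⟨α, hα, hαe⟩ := hψ.exists_aut hr
  -- the bottom two members
  obtain ⟨T₁, T₂, hT1, hT2, hT1c, hT2c, hTinv⟩ : ∃ T₁ T₂ : Subgroup ↥S, T₁ ≤ P ↥S (n - 3) ∧ T₂ ≤ T₁ ∧
      Nat.card T₁ = p ^ 2 ∧ Nat.card T₂ = p ∧ ∀ ψ : K →* ↥S, FMap F K ψ → ψ.range = K →
        img ψ T₁ ≤ T₁ ∧ img ψ T₂ ≤ T₂ := by
    by_cases hcm : ∀ a ∈ P ↥S j, ∀ b ∈ P ↥S (n - 3), Commute a b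
    · have hTW := hs.inf_centralizer_eq h hp3 hn hj hjn hcm
      obtain ⟨hcY, hYW⟩ := hs.commutator_facts h hp3 hn hj hjn hcm
      refine ⟨P ↥S (n - 3) ⊓ Subgroup.centralizer (K : Set ↥S), ⁅P ↥S (n - 3), K⁆, inf_le_left,
        hTW ▸ hYW, by rw [hTW, hs.card_inf h hp3 hn], hcY, fun ψ hψ hr => ?_⟩
      obtain ⟨-, hP⟩ := tower_inv h hp3 hn hS hF hess hab hc hN (n - 3 - j) j (by omega) hj E₀ hrefl ψ hψ
      have hP3 := hP (n - 3) hjn le_rfl
      have hle3 : P ↥S (n - 3) ≤ K := (P_anti hjn).trans le_sup_right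
      constructor
      · refine (img_inf_centralizer_le le_rfl).trans ?_
        rw [hP3, img_self, hr]
      · rw [img_commutator hle3 le_rfl, hP3, img_self, hr]
    · push Not at hcm
      obtain ⟨a, ha, b, hb, hab'⟩ := hcm
      obtain rfl : j = 2 := by
        by_contra hj2
        exact hab' (comm_high h hp3 hn (by omega) ha hb)
      obtain ⟨hY, hT⟩ := bottom_two h hp3 hn ha hb hab'
      refine ⟨P ↥S (n - 3) ⊓ Subgroup.centralizer (P ↥S 2 : Set ↥S), ⁅P ↥S 2, P ↥S (n - 3)⁆, inf_le_left,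
        ?_, ?_, ?_, fun ψ hψ hr => ?_⟩
      · rw [hT, hY]; exact P_anti (by omega)
      · rw [hT, h.card_P (by omega) (by omega), show n - (n - 2) = 2 by omega]
      · rw [hY, h.card_P (by omega) (by omega), show n - (n - 1) = 1 by omega, pow_one]
      obtain ⟨-, hP⟩ := tower_inv h hp3 hn hS hF hess hab hc hN (n - 3 - 2) 2 (by omega) hj E₀ hrefl ψ hψ
      have hP3 := hP (n - 3) hjn le_rfl
      have hP2 := hP 2 le_rfl hjn
      constructor
      · refine (img_inf_centralizer_le le_sup_right).trans ?_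
        rw [hP3, hP2]
      · rw [img_commutator le_sup_right ((P_anti hjn).trans le_sup_right), hP3, hP2]
  -- the series
  let Lx : ℕ → Subgroup ↥S := fun k =>
    if k = 0 then K else if j + k - 1 ≤ n - 3 then P ↥S (j + k - 1)
    else if j + k - 1 = n - 2 then T₁ else if j + k - 1 = n - 1 then T₂ else ⊥
  have hT1K : T₁ ≤ K := hT1.trans ((P_anti hjn).trans le_sup_right)
  have hLK : ∀ k, Lx k ≤ K := fun k => by
    simp only [Lx]
    split_ifs
    exacts [le_rfl, (P_anti (by omega)).trans le_sup_right, hT1K, hT2.trans hT1K, bot_le]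
  have hcard : ∀ k, k ≤ n - j + 1 → Nat.card (Lx k) = p ^ (n - j + 1 - k) := fun k hk => by
    simp only [Lx]
    split_ifs with h0 h1 h2 h3
    · subst h0; rw [hs.card_sup h hp3 hn hj hjn, Nat.sub_zero]
    · rw [h.card_P (by omega) (by omega)]; congr 1; omega
    · rw [hT1c]; congr 1; omega
    · rw [hT2c, show n - j + 1 - k = 1 by omega, pow_one]
    · rw [Subgroup.card_bot, show n - j + 1 - k = 0 by omega, pow_zero]
  have hinvx : ∀ ψ : K →* ↥S, FMap F K ψ → ψ.range = K → ∀ k, img ψ (Lx k) ≤ Lx k := fun ψ hψ hr k => by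
    obtain ⟨-, hP⟩ := tower_inv h hp3 hn hS hF hess hab hc hN (n - 3 - j) j (by omega) hj E₀ hrefl ψ hψ
    simp only [Lx]
    split_ifs with h0 h1 h2 h3
    · rw [img_self, hr]
    · exact (hP _ (by omega) h1).le
    · exact (hTinv ψ hψ hr).1
    · exact (hTinv ψ hψ hr).2
    · rintro _ ⟨x, hx, rfl⟩
      rw [show x = 1 from Subtype.ext (Subgroup.mem_bot.1 hx)]
      simp
  let L : ℕ → Subgroup (up K) := fun k => (up (Lx k)).subgroupOf (up K)
  have hnorm := normalizing_of_series hS hF (fullyNormalized_sup h hp3 hn hS hF hess hab hc hN hj hjn) L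
    (m := n - j + 1) ?_ ?_ ?_ ?_ hα
  · obtain ⟨ψ', hψ', hr', he'⟩ :=
      exists_extension hS hF (fullyNormalized_sup h hp3 hn hS hF hess hab hc hN hj hjn) hα hnorm
    exact ⟨ψ', hψ', hr', fun x => Subtype.ext ((he' x).symm.trans (hαe x))⟩
  · show (up (Lx 0)).subgroupOf (up K) = ⊤
    rw [show Lx 0 = K from if_pos rfl, Subgroup.subgroupOf_self]
  · have h1 : Lx (n - j + 1) = ⊥ := Subgroup.eq_bot_of_card_eq _ (by rw [hcard _ le_rfl, Nat.sub_self, pow_zero])
    simp only [L, h1, up, Subgroup.map_bot, Subgroup.bot_subgroupOf]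
    rfl
  · intro γ hγ k x hx
    obtain ⟨ψ₁, hψ₁, hr₁, he₁⟩ := exists_FMap_of_aut hγ
    obtain ⟨y, hy, hyx⟩ := Subgroup.mem_subgroupOf.1 hx
    refine Subgroup.mem_subgroupOf.2 ?_
    have := hinvx ψ₁ hψ₁ hr₁ k ⟨⟨y, hLK k hy⟩, hy, rfl⟩
    have hx' : x = ⟨((y : ↥S) : Ω), (mem_up y).2 (hLK k hy)⟩ := Subtype.ext hyx.symm
    rw [hx', he₁ ⟨y, hLK k hy⟩]
    exact (mem_up _).2 this
  · intro k hk
    have hc1 : ∀ k, Nat.card (L k) = Nat.card (Lx k) := fun k =>
      (Nat.card_congr (Subgroup.subgroupOfEquivOfLe (Subgroup.map_mono (hLK k) : up (Lx k) ≤ up K)).toEquiv).trans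
        (card_up _)
    refine ⟨fun x hx => ?_, ?_⟩
    · have hle : Lx (k + 1) ≤ Lx k := by
        rcases Nat.eq_zero_or_pos k with rfl | hk0
        · rw [show Lx 0 = K from if_pos rfl]
          exact hLK _
        · simp only [Lx, if_neg hk0.ne', if_neg (Nat.succ_ne_zero k)]
          split_ifs
          all_goals first
            | omega
            | exact le_rfl
            | exact bot_le
            | exact P_anti (by omega)
            | exact hT2
            | exact hT1.trans (P_anti (by omega))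
            | exact hT2.trans (hT1.trans (P_anti (by omega)))
      exact Subgroup.mem_subgroupOf.2 (Subgroup.map_mono hle (Subgroup.mem_subgroupOf.1 hx))
    · rw [hc1, hc1, hcard k (by omega), hcard (k + 1) (by omega), ← pow_succ']
      congr 1; omega

/-- An automorphism of `E₀` commuting with the induced ones extends to the base. -/
theorem extend_to_base {σ : MulAut (up E₀)} (hσ : σ ∈ F.autGroup (up E₀))
    (hcomm : ∀ u ∈ autInducedBy S (up E₀), σ * u = u * σ) :
    ∃ γ : ↥S ≃* ↥S, ∀ x : E₀, ((σ ⟨((x : ↥S) : Ω), (mem_up _).2 x.2⟩ : up E₀) : Ω) = ((γ x : ↥S) : Ω) := by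
  have hrefl := conj_refl' h hp3 hn hS hF hess hab hc hN
  have hs := s3_of_conj h hp3 hn hS hF hess hab hc hN hrefl
  have key : ∀ k j, j + k = n - 3 → 2 ≤ j → ∃ ψ : ↥(E₀ ⊔ P ↥S j) →* ↥S, FMap F _ ψ ∧ ψ.range = E₀ ⊔ P ↥S j ∧
      ∀ x : E₀, ((σ ⟨((x : ↥S) : Ω), (mem_up _).2 x.2⟩ : up E₀) : Ω) =
        ((ψ ⟨x, Subgroup.mem_sup_left x.2⟩ : ↥S) : Ω) := by
    intro k
    induction k with
    | zero =>
      intro j hj _
      obtain rfl : j = n - 3 := by omega
      obtain ⟨ψ, hψ, hr, he⟩ := exists_extension hS hF hess.2.1 hσ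
        fun u hu => by rw [hcomm u hu, mul_inv_cancel_right]; exact hu
      have heq := hs.normalizer_eq h hp3 hn
      refine ⟨ψ.comp (Subgroup.inclusion heq.ge), hψ.restrict _, ?_, fun x => he x⟩
      rw [range_restrict_eq, show img ψ (E₀ ⊔ P ↥S (n - 3)) = ψ.range by rw [← heq, img_self], hr, heq]
    | succ k ih =>
      intro j hj hj2
      obtain ⟨ψ, hψ, hr, he⟩ := ih (j + 1) (by omega) (by omega)
      obtain ⟨ψ', hψ', hr', he'⟩ :=
        extend_step h hp3 hn hS hF hess hab hc hN (j := j + 1) (by omega) (by omega) hψ hr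
      have heq := hs.normalizer_sup h hp3 hn (j := j + 1) (by omega) (by omega)
      rw [Nat.add_sub_cancel] at heq
      refine ⟨ψ'.comp (Subgroup.inclusion heq.ge), hψ'.restrict _, ?_, fun x => ?_⟩
      · rw [range_restrict_eq, show img ψ' (E₀ ⊔ P ↥S j) = ψ'.range by rw [← heq, img_self], hr', heq]
      · exact (he x).trans (congrArg Subtype.val (he' ⟨x, Subgroup.mem_sup_left x.2⟩).symm)
  obtain ⟨ψ, hψ, hr, he⟩ := key (n - 5) 2 (by omega) le_rfl
  obtain ⟨ψ', hψ', hr', he'⟩ := extend_step h hp3 hn hS hF hess hab hc hN (j := 2) le_rfl (by omega) hψ hr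
  have htop := hs.normalizer_sup_two h hp3 hn
  let f : ↥S →* ↥S := ψ'.comp ((MonoidHom.id ↥S).codRestrict _ fun x => htop.ge (Subgroup.mem_top x))
  have hf : Function.Injective f := fun a b hab => congrArg Subtype.val (hψ'.injective hab)
  refine ⟨MulEquiv.ofBijective f ⟨hf, Finite.injective_iff_surjective.1 hf⟩, fun x => ?_⟩
  exact (he x).trans (congrArg Subtype.val (he' ⟨x, Subgroup.mem_sup_left x.2⟩).symm)

end Cfsg.Agent.Lib.Soft3
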