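import Cfsg.Agent.Lib.Soft3.Transvection
import Cfsg.Agent.Lib.Soft3.Tower

/-!
No elementary abelian essential subgroup of order `p ^ 3` in a group of maximal class of order at least `p ^ 5`.

Owner: helper78.
-/

set_option autoImplicit false
set_option linter.style.haveILetI false
set_option linter.unusedSectionVars false

open scoped commutatorElement

namespace Cfsg.Agent.Lib.Soft3

open Cfsg Cfsg.FusionSystem Cfsg.Agent.Lib Cfsg.Agent.Lib.FS Cfsg.Agent.Lib.MaxClass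

universe u

section weights

variable {p n : ℕ} [hp : Fact p.Prime] {X : Type u} [Group X] [Finite X]

/-- `γ` raises the layer `i` to the power `ε`. -/
def Wt (γ : X ≃* X) (i : ℕ) (ε : ℤ) : Prop := ∀ x ∈ P X i, γ x * (x ^ ε)⁻¹ ∈ P X (i + 1)

omit hp [Finite X] in
theorem mk_eq_iff {i : ℕ} {a b : X} :
    QuotientGroup.mk' (P X i) a = QuotientGroup.mk' (P X i) b ↔ a * b⁻¹ ∈ P X i := by
  constructor
  · intro hh
    refine (QuotientGroup.eq_one_iff _).1 ?_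
    change QuotientGroup.mk' (P X i) (a * b⁻¹) = 1
    rw [map_mul, map_inv, hh, mul_inv_cancel]
  · intro hh
    rw [← mul_inv_eq_one, ← map_inv, ← map_mul]
    exact (QuotientGroup.eq_one_iff _).2 hh

theorem exists_gt_not_le (h : MC p n X) {A : Subgroup X} (hA : A ≠ ⊥) : ∃ i, A ≤ P X i ∧ ¬ A ≤ P X (i + 1) := by
  classical
  have hex : ∃ m, ¬ A ≤ P X m := ⟨n, fun hh => hA (le_bot_iff.1 (hh.trans h.P_n.le))⟩
  have h0 : Nat.find hex ≠ 0 := fun h0 => Nat.find_spec hex (by rw [h0, P_zero]; exact le_top)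
  refine ⟨Nat.find hex - 1, not_not.1 (Nat.find_min hex (by omega)), ?_⟩
  rw [show Nat.find hex - 1 + 1 = Nat.find hex by omega]
  exact Nat.find_spec hex

/-- A nontrivial subgroup has a maximal subgroup receiving its commutators with its normalizer. -/
theorem exists_below (h : MC p n X) {A : Subgroup X} (hA : A ≠ ⊥) :
    ∃ A' ≤ A, Nat.card A = p * Nat.card A' ∧ ∀ a ∈ A, ∀ g ∈ Subgroup.normalizer (A : Set X), ⁅g, a⁆ ∈ A' := by
  obtain ⟨i, hi, hi'⟩ := exists_gt_not_le h hA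
  have hin : i < n := by
    by_contra hin
    exact hA (le_bot_iff.1 (hi.trans (h.P_eq_bot (by omega)).le))
  have hstep : Nat.card (P X i) = p * Nat.card (P X (i + 1)) := by
    rcases Nat.eq_zero_or_pos i with rfl | hi0
    · rw [P_zero, Subgroup.card_top, h.card, h.card_P le_rfl (by omega), ← pow_succ']
      congr 1; omega
    · rw [h.card_P hi0 hin.le, h.card_P (by omega) hin, ← pow_succ']
      congr 1; omega
  refine ⟨A ⊓ P X (i + 1), inf_le_left, ?_, fun a ha g hg => ⟨?_, ?_⟩⟩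
  · have heq : A ⊔ P X (i + 1) = P X i := by
      have hle : A ⊔ P X (i + 1) ≤ P X i := sup_le hi (P_succ_le i)
      refine Subgroup.eq_of_le_of_card_ge hle ?_
      obtain ⟨q, hq⟩ := Subgroup.card_dvd_of_le (le_sup_right : P X (i + 1) ≤ A ⊔ P X (i + 1))
      have h1 := Subgroup.card_dvd_of_le hle
      rw [hstep, hq, Nat.mul_comm p, Nat.mul_dvd_mul_iff_left Nat.card_pos] at h1
      rcases (Nat.dvd_prime hp.out).1 h1 with rfl | rfl
      · rw [mul_one] at hq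
        exact absurd (le_sup_left.trans (Subgroup.eq_of_le_of_card_ge le_sup_right hq.le).ge) hi'
      · rw [hstep, hq, Nat.mul_comm]
    have h1 := card_sup_P (E := A) (X := X) (i + 1)
    rw [heq, hstep, mul_right_comm] at h1
    exact (Nat.eq_of_mul_eq_mul_right Nat.card_pos h1).symm
  · rw [show ⁅g, a⁆ = g * a * g⁻¹ * a⁻¹ by group]
    exact A.mul_mem (Fgs55.conj_mem hg ha) (A.inv_mem ha)
  · rcases Nat.eq_zero_or_pos i with rfl | hi0
    · exact P_anti (by omega) (comm_mem_top g a)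
    · exact comm_mem' hi0 (hi ha) g

variable {γ : X ≃* X}

/-- Weights multiply along commutators. -/
theorem wt_comm {i : ℕ} (hi : 1 ≤ i) {x t r : X} {ε δ : ℤ} (hx : x ∈ P X i)
    (hγx : γ x * (x ^ ε)⁻¹ ∈ P X (i + 1)) (hr : ∀ a ∈ P X i, ⁅a, r⁆ ∈ P X (i + 2)) (hγt : γ t = r * t ^ δ) :
    γ ⁅x, t⁆ * (⁅x, t⁆ ^ (ε * δ))⁻¹ ∈ P X (i + 2) := by
  rw [← mk_eq_iff]
  obtain ⟨π, rfl⟩ : ∃ π, QuotientGroup.mk' (P X (i + 2)) = π := ⟨_, rfl⟩
  set π := QuotientGroup.mk' (P X (i + 2))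
  have hcen : ∀ a ∈ P X (i + 1), ∀ g : X, Commute (π a) (π g) := fun a ha g => by
    rw [← commutatorElement_eq_one_iff_commute, ← map_commutatorElement]
    exact (QuotientGroup.eq_one_iff _).2 (comm_mem (by omega) ha g)
  have hrc : ∀ a ∈ P X i, Commute (π a) (π r) := fun a ha => by
    rw [← commutatorElement_eq_one_iff_commute, ← map_commutatorElement]
    exact (QuotientGroup.eq_one_iff _).2 (hr a ha)
  obtain ⟨q, hq, hqx⟩ : ∃ q ∈ P X (i + 1), γ x = q * x ^ ε := ⟨_, hγx, by rw [inv_mul_cancel_right]⟩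
  have hc : ∀ g : X, Commute (π ⁅x, t⁆) (π g) := hcen _ (comm_mem hi hx t)
  set c := π ⁅x, t⁆ with hcdef
  have h1 : π t * π x * (π t)⁻¹ = c⁻¹ * π x := by
    rw [hcdef, map_commutatorElement, commutatorElement_def]; group
  have h2 : π x ^ ε * π t * (π x ^ ε)⁻¹ = c ^ ε * π t := by
    have h3 : π t * π x ^ ε * (π t)⁻¹ = (c ^ ε)⁻¹ * π x ^ ε := by
      rw [← conj_zpow, h1, (hc x).inv_left.mul_zpow, inv_zpow]
    calc π x ^ ε * π t * (π x ^ ε)⁻¹ = c ^ ε * ((c ^ ε)⁻¹ * π x ^ ε) * π t * (π x ^ ε)⁻¹ := by group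
      _ = c ^ ε * (π t * π x ^ ε * (π t)⁻¹) * π t * (π x ^ ε)⁻¹ := by rw [h3]
      _ = c ^ ε * π t := by group
  have h4 : π x ^ ε * π t ^ δ * (π x ^ ε)⁻¹ = c ^ (ε * δ) * π t ^ δ := by
    rw [← conj_zpow, h2, ((hc t).zpow_left ε).mul_zpow, zpow_mul]
  rw [map_zpow, map_commutatorElement γ, map_commutatorElement π, hqx, hγt, map_mul, map_mul, map_zpow, map_zpow,
    commutatorElement_def]
  have hq1 : Commute (π q) (π x ^ ε * (π r * π t ^ δ) * (π x ^ ε)⁻¹) := by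
    simp only [← map_zpow, ← map_inv, ← map_mul]
    exact hcen q hq _
  have hr1 : π x ^ ε * π r = π r * π x ^ ε := ((hrc x hx).zpow_left ε).eq
  calc π q * π x ^ ε * (π r * π t ^ δ) * (π q * π x ^ ε)⁻¹ * (π r * π t ^ δ)⁻¹
      = π q * (π x ^ ε * (π r * π t ^ δ) * (π x ^ ε)⁻¹) * (π q)⁻¹ * (π r * π t ^ δ)⁻¹ := by group
    _ = π x ^ ε * (π r * π t ^ δ) * (π x ^ ε)⁻¹ * (π r * π t ^ δ)⁻¹ := by rw [hq1.eq, mul_inv_cancel_right]
    _ = π x ^ ε * π r * π t ^ δ * (π x ^ ε)⁻¹ * (π r * π t ^ δ)⁻¹ := by group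
    _ = π r * (π x ^ ε * π t ^ δ * (π x ^ ε)⁻¹) * (π r * π t ^ δ)⁻¹ := by rw [hr1]; group
    _ = π r * c ^ (ε * δ) * (π r)⁻¹ := by rw [h4]; group
    _ = c ^ (ε * δ) := by rw [((hc r).zpow_left (ε * δ)).symm.eq, mul_inv_cancel_right]

variable (h : MC p n X)
include h

theorem zpow_mem_succ {i : ℕ} {x : X} (hx : x ∈ P X i) {m : ℤ} (hm : (p : ℤ) ∣ m) : x ^ m ∈ P X (i + 1) := by
  obtain ⟨q, rfl⟩ := hm
  rw [zpow_mul, zpow_natCast]
  exact zpow_mem (h.pow_mem_succ hx) q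

theorem dvd_of_two_wt {i : ℕ} {x : X} (hx : x ∈ P X i) (hx' : x ∉ P X (i + 1)) {a b : ℤ}
    (ha : γ x * (x ^ a)⁻¹ ∈ P X (i + 1)) (hb : γ x * (x ^ b)⁻¹ ∈ P X (i + 1)) : (p : ℤ) ∣ a - b := by
  by_contra hnd
  refine h.zpow_notMem hx hx' hnd ?_
  have := mul_mem (inv_mem hb) ha
  rw [show (γ x * (x ^ b)⁻¹)⁻¹ * (γ x * (x ^ a)⁻¹) = x ^ (b - a) by group] at this
  rw [show a - b = -(b - a) by ring, zpow_neg]
  exact inv_mem this

theorem wt_congr {i : ℕ} {x : X} (hx : x ∈ P X i) {a b : ℤ} (hab : (p : ℤ) ∣ a - b)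
    (ha : γ x * (x ^ a)⁻¹ ∈ P X (i + 1)) : γ x * (x ^ b)⁻¹ ∈ P X (i + 1) := by
  have := mul_mem ha (zpow_mem_succ h hx hab)
  rwa [show γ x * (x ^ a)⁻¹ * x ^ (a - b) = γ x * (x ^ b)⁻¹ by group] at this

theorem wt_of_one {i : ℕ} (hi : 1 ≤ i) (hin : i < n) {x : X} (hx : x ∈ P X i) (hx' : x ∉ P X (i + 1)) {ε : ℤ}
    (hw : γ x * (x ^ ε)⁻¹ ∈ P X (i + 1)) : Wt γ i ε := by
  intro y hy
  obtain ⟨a, r, hr, rfl⟩ := h.exists_coord hi hin hx hx' hy
  rw [← mk_eq_iff] at hw ⊢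
  set π := QuotientGroup.mk' (P X (i + 1))
  have h1 : π r = 1 := (QuotientGroup.eq_one_iff r).2 hr
  have h2 : π (γ r) = 1 := (QuotientGroup.eq_one_iff _).2 (P_map_mulEquiv γ _ hr)
  rw [map_zpow] at hw
  rw [map_mul, map_mul, h2, one_mul, map_zpow, map_zpow, hw, map_zpow, map_mul, h1, one_mul, map_zpow,
    ← zpow_mul, ← zpow_mul, mul_comm]

theorem exists_wt_coord {i : ℕ} (hi : 1 ≤ i) (hin : i < n) {x : X} (hx : x ∈ P X i) (hx' : x ∉ P X (i + 1)) :
    ∃ a : ℤ, γ x * (x ^ a)⁻¹ ∈ P X (i + 1) := by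
  obtain ⟨a, r, hr, he⟩ := h.exists_coord hi hin hx hx' (P_map_mulEquiv γ i hx)
  exact ⟨a, by rw [he, mul_inv_cancel_right]; exact hr⟩

theorem comm_notMem_of_M {i : ℕ} (hi : 1 ≤ i) (hin : i + 2 ≤ n) {t x : X} (ht : t ∉ MaxClass.M X i)
    (hx : x ∈ P X i) (hx' : x ∉ P X (i + 1)) : ⁅x, t⁆ ∉ P X (i + 2) := by
  refine fun hxt => ht (mem_M.2 fun a ha => ?_)
  refine (QuotientGroup.eq_one_iff _).1 ?_
  change QuotientGroup.mk' (P X (i + 2)) ⁅a, t⁆ = 1
  rw [map_commutatorElement, commutatorElement_eq_one_iff_commute]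
  obtain ⟨k, r, hr, rfl⟩ := h.exists_coord hi (by omega) hx hx' ha
  rw [map_mul, map_zpow]
  refine Commute.mul_left ?_ (Commute.zpow_left ?_ k)
  · rw [← commutatorElement_eq_one_iff_commute, ← map_commutatorElement]
    exact (QuotientGroup.eq_one_iff _).2 (comm_mem (by omega) hr t)
  · rw [← commutatorElement_eq_one_iff_commute, ← map_commutatorElement]
    exact (QuotientGroup.eq_one_iff _).2 hxt

end weights

variable {Ω : Type*} [Group Ω] {S : Subgroup Ω} [Finite S] {p n : ℕ} [hp : Fact p.Prime] {F : FusionSystem S}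

/-- The group theoretic contradiction. -/
theorem false_of_extension (h : MC p n ↥S) (hp3 : 3 ≤ p) (hn : 5 ≤ n) {E₀ : Subgroup ↥S} (hs : S3 p E₀)
    (γ : ↥S ≃* ↥S) (h1 : ∀ e ∈ E₀, γ e * e ∈ E₀ ⊓ P ↥S 2)
    (h2 : ∀ g ∈ Subgroup.normalizer (E₀ : Set ↥S), g⁻¹ * γ g ∈ E₀)
    (h4 : ∀ w ∈ E₀ ⊓ P ↥S 2, w⁻¹ * γ w ∈ ⁅P ↥S (n - 3), E₀ ⊔ P ↥S (n - 3)⁆) : False := by
  have hcm : ∀ a ∈ P ↥S (n - 3), ∀ b ∈ P ↥S (n - 3), Commute a b := fun a ha b hb => comm_three h hp3 hn ha hb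
  obtain ⟨hcY, hYW⟩ := hs.commutator_facts h hp3 hn (j := n - 3) (by omega) le_rfl hcm
  set Y := ⁅P ↥S (n - 3), E₀ ⊔ P ↥S (n - 3)⁆ with hY
  have hN3 : ∀ a ∈ P ↥S (n - 3), a ∈ Subgroup.normalizer (E₀ : Set ↥S) := hs.toBase.three_le_normalizer h hp3 hn
  have hd := h.deg_sub_two hp3
  by_cases hE1 : E₀ ≤ P ↥S 1
  · -- `E₀ ≤ P 1`
    have hYZ : Y ≤ P ↥S (n - 1) := by
      rw [hY, Subgroup.commutator_le]
      intro a ha g hg
      have hg1 : g ∈ P ↥S 1 := sup_le hE1 (P_anti (by omega)) hg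
      exact P_anti (by omega) (comm_P_one h hp3 hn (by omega) le_rfl ha hg1)
    have hw2 : Wt γ (n - 2) 1 := by
      intro x hx
      rw [zpow_one, show n - 2 + 1 = n - 1 by omega]
      by_cases hM : E₀ ≤ MaxClass.M ↥S (n - 2)
      · have hxW : x ∈ E₀ ⊓ P ↥S 2 := (hs.inf_eq_Z2 h hp3 hn hM).ge hx
        have h5 := hYZ (h4 x hxW)
        rw [show γ x * x⁻¹ = x * (x⁻¹ * γ x) * x⁻¹ by group]
        exact (P_normal _).conj_mem _ h5 x
      · have h5 : x⁻¹ * γ x ∈ E₀ ⊓ P ↥S (n - 2) :=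
          ⟨h2 x (hN3 x (P_anti (by omega) hx)),
            (P ↥S (n - 2)).mul_mem ((P ↥S (n - 2)).inv_mem hx) (P_map_mulEquiv γ _ hx)⟩
        have heq : E₀ ⊓ P ↥S (n - 2) = P ↥S (n - 1) := by
          refine (Subgroup.eq_of_le_of_card_ge (le_inf (hs.toBase.last_le h) (P_anti (by omega))) ?_).symm
          obtain ⟨i, -, hi⟩ := (Nat.dvd_prime_pow hp.out).1
            (h.card_P (i := n - 2) (by omega) (by omega) ▸
              Subgroup.card_dvd_of_le (inf_le_right : E₀ ⊓ P ↥S (n - 2) ≤ _))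
          have hlt : Nat.card (E₀ ⊓ P ↥S (n - 2) : Subgroup ↥S) < Nat.card (P ↥S (n - 2)) :=
            lt_of_le_of_ne (Subgroup.card_le_of_le inf_le_right) fun he => hM fun e he' => mem_M.2 fun a ha => by
              have haE : a ∈ E₀ := ((Subgroup.eq_of_le_of_card_ge inf_le_right he.ge).ge ha).1
              rw [commutatorElement_eq_one_iff_commute.2 (hs.comm a haE e he')]
              exact one_mem _
          rw [hi, h.card_P (by omega) (by omega), Nat.pow_lt_pow_iff_right hp.out.one_lt] at hlt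
          rw [hi, h.card_P (by omega) (by omega)]
          exact Nat.pow_le_pow_right hp.out.pos (by omega)
        rw [show γ x * x⁻¹ = x * (x⁻¹ * γ x) * x⁻¹ by group]
        exact (P_normal _).conj_mem _ (heq.le h5) x
    have hw3 : Wt γ (n - 3) 1 := by
      intro x hx
      rw [zpow_one, show n - 3 + 1 = n - 2 by omega]
      by_cases hM : E₀ ≤ MaxClass.M ↥S (n - 2)
      · have h5 : x⁻¹ * γ x ∈ E₀ ⊓ P ↥S 2 :=
          ⟨h2 x (hN3 x hx), P_anti (by omega) (mul_mem (inv_mem hx) (P_map_mulEquiv γ _ hx))⟩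
        rw [hs.inf_eq_Z2 h hp3 hn hM] at h5
        rw [show γ x * x⁻¹ = x * (x⁻¹ * γ x) * x⁻¹ by group]
        exact (P_normal _).conj_mem _ h5 x
      · have hle : (E₀ ⊓ P ↥S 2) ⊔ P ↥S (n - 2) ≤ P ↥S (n - 3) :=
          sup_le (hs.inf_two_le h hp3 hn) (P_anti (by omega))
        have heq : (E₀ ⊓ P ↥S 2) ⊔ P ↥S (n - 2) = P ↥S (n - 3) := by
          refine Subgroup.eq_of_le_of_card_ge hle ?_
          obtain ⟨i, -, hi⟩ := (Nat.dvd_prime_pow hp.out).1
            (h.card_P (i := n - 3) (by omega) (by omega) ▸ Subgroup.card_dvd_of_le hle)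
          have hlt : Nat.card (P ↥S (n - 2)) < Nat.card ((E₀ ⊓ P ↥S 2) ⊔ P ↥S (n - 2) : Subgroup ↥S) := by
            refine lt_of_le_of_ne (Subgroup.card_le_of_le le_sup_right) fun he => hM ?_
            have hWZ : E₀ ⊓ P ↥S 2 ≤ P ↥S (n - 2) :=
              le_sup_left.trans (Subgroup.eq_of_le_of_card_ge le_sup_right he.ge).ge
            have hWeq : E₀ ⊓ P ↥S 2 = P ↥S (n - 2) := Subgroup.eq_of_le_of_card_ge hWZ (by
              rw [hs.card_inf h hp3 hn, h.card_P (by omega) (by omega), show n - (n - 2) = 2 by omega])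
            intro e he'
            refine mem_M.2 fun a ha => ?_
            rw [commutatorElement_eq_one_iff_commute.2 (hs.comm a (hWeq.ge ha).1 e he')]
            exact one_mem _
          rw [hi, h.card_P (by omega) (by omega), Nat.pow_lt_pow_iff_right hp.out.one_lt] at hlt
          rw [hi, h.card_P (by omega) (by omega)]
          exact Nat.pow_le_pow_right hp.out.pos (by omega)
        obtain ⟨w, hw, z, hz, rfl⟩ := Subgroup.mem_sup_of_normal_right.1 (heq.ge hx)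
        have e1 : γ w * w⁻¹ ∈ P ↥S (n - 2) := by
          rw [show γ w * w⁻¹ = w * (w⁻¹ * γ w) * w⁻¹ by group]
          exact (P_normal _).conj_mem _ (P_anti (by omega) (hYZ (h4 w hw))) w
        rw [map_mul, show γ w * γ z * (w * z)⁻¹ = (γ w * w⁻¹) * (w * (γ z * z⁻¹) * w⁻¹) by group]
        exact mul_mem e1 ((P_normal _).conj_mem _ (mul_mem (P_map_mulEquiv γ _ hz) (inv_mem hz)) w)
    -- the weight of `y`
    obtain ⟨y, hy⟩ : ∃ y : ↥S, y ∉ P ↥S 1 := by
      by_contra hne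
      push Not at hne
      exact h.P_one_ne_top (eq_top_iff.2 fun g _ => hne g)
    obtain ⟨r, hr, _, ⟨a, rfl⟩, hγy⟩ := Subgroup.mem_sup_of_normal_left.1
      ((h.P_one_sup hy).symm ▸ Subgroup.mem_top (γ y) : γ y ∈ P ↥S 1 ⊔ Subgroup.zpowers y)
    have hrM : ∀ i, 1 ≤ i → i ≤ n - 3 → ∀ b ∈ P ↥S i, ⁅b, r⁆ ∈ P ↥S (i + 2) := fun i hi him b hb =>
      comm_P_one h hp3 hn hi him hb hr
    have hyM : ∀ i, 1 ≤ i → i ≤ n - 3 → y ∉ MaxClass.M ↥S i := fun i hi him =>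
      h.notMem_M hd hi (by omega) (by omega) hy
    have ha1 : (p : ℤ) ∣ a - 1 := by
      obtain ⟨x, hx, hx'⟩ := h.exists_notMem_succ (i := n - 3) (by omega) (by omega)
      have h5 := wt_comm (γ := γ) (by omega) hx (hw3 x hx) (hrM _ (by omega) le_rfl) hγy.symm
      rw [one_mul] at h5
      have hc : ⁅x, y⁆ ∈ P ↥S (n - 3 + 1) := comm_mem (by omega) hx y
      refine dvd_of_two_wt h (i := n - 3 + 1) hc (comm_notMem_of_M h (by omega) (by omega) (hyM _ (by omega) le_rfl) hx hx')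
        h5 ?_
      have h6 := hw2 ⁅x, y⁆ (P_anti (by omega) hc)
      rwa [show n - 2 + 1 = n - 3 + 1 + 1 by omega] at h6
    obtain ⟨e, he, he2, -⟩ := hs.exists_gen h hp3 hn
    have hneg : ∀ i, 1 ≤ i → i ≤ n - 3 → Wt γ i (-1) := by
      intro i hi
      induction i, hi using Nat.le_induction with
      | base =>
        intro _
        refine wt_of_one h le_rfl (by omega) (hE1 he) he2 ?_
        rw [zpow_neg_one, inv_inv]
        exact (h1 e he).2
      | succ i hi ih =>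
        intro hin
        obtain ⟨x, hx, hx'⟩ := h.exists_notMem_succ (i := i) hi (by omega)
        have h5 := wt_comm (γ := γ) hi hx (ih (by omega) x hx) (hrM _ hi (by omega)) hγy.symm
        have hc : ⁅x, y⁆ ∈ P ↥S (i + 1) := comm_mem hi hx y
        refine wt_of_one h (by omega) (by omega) hc
          (comm_notMem_of_M h hi (by omega) (hyM _ hi (by omega)) hx hx') ?_
        refine wt_congr h (i := i + 1) hc ?_ h5
        obtain ⟨q, hq⟩ := ha1
        exact ⟨-q, by linear_combination -hq⟩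
    obtain ⟨x, hx, hx'⟩ := h.exists_notMem_succ (i := n - 3) (by omega) (by omega)
    have h7 := dvd_of_two_wt h hx hx' (hw3 x hx) (hneg _ (by omega) le_rfl x hx)
    rw [show (1 : ℤ) - -1 = ((2 : ℕ) : ℤ) by norm_num] at h7
    have := Nat.le_of_dvd (by omega) (Int.natCast_dvd_natCast.1 h7)
    omega
  · -- `E₀ ≰ P 1`
    have hM : E₀ ≤ MaxClass.M ↥S (n - 2) := (hs.toBase.side h hp3 hn).resolve_left hE1
    have hP1M : ¬ P ↥S 1 ≤ MaxClass.M ↥S (n - 2) := fun hle => hE1 (hM.trans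
      (h.eq_of_index_prime h.index_P_one hle (h.M_ne_top (by omega) (by omega))).ge)
    have hev : Even n := by
      by_contra hodd
      exact hP1M (h.P_one_le_M (h.deg hp3 (Or.inl (Nat.not_even_iff_odd.1 hodd))) (by omega) (by omega))
    have hn6 : 6 ≤ n := by obtain ⟨k, hk⟩ := hev; omega
    obtain ⟨e, he, he1⟩ := SetLike.not_le_iff_exists.1 hE1
    have hγe : γ e = (γ e * e) * e ^ (-1 : ℤ) := by rw [zpow_neg_one, mul_inv_cancel_right]
    have hre : ∀ i, 1 ≤ i → ∀ b ∈ P ↥S i, ⁅b, γ e * e⁆ ∈ P ↥S (i + 2) := fun i hi b hb =>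
      comm_le hi (by omega) hb (h1 e he).2
    have heM : ∀ i, 1 ≤ i → i ≤ n - 3 → e ∉ MaxClass.M ↥S i := fun i hi him =>
      h.notMem_M hd hi (by omega) (by omega) he1
    have hW := hs.inf_eq_Z2 h hp3 hn hM
    have halt : ∀ k i, i + k = n - 3 → 1 ≤ i → Wt γ i ((-1) ^ k) := by
      intro k
      induction k with
      | zero =>
        intro i hi _
        obtain rfl : i = n - 3 := by omega
        intro x hx
        rw [pow_zero, zpow_one, show n - 3 + 1 = n - 2 by omega]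
        have h5 : x⁻¹ * γ x ∈ E₀ ⊓ P ↥S 2 :=
          ⟨h2 x (hN3 x hx), P_anti (by omega) (mul_mem (inv_mem hx) (P_map_mulEquiv γ _ hx))⟩
        rw [hW] at h5
        rw [show γ x * x⁻¹ = x * (x⁻¹ * γ x) * x⁻¹ by group]
        exact (P_normal _).conj_mem _ h5 x
      | succ k ih =>
        intro i hik hi
        obtain ⟨x, hx, hx'⟩ := h.exists_notMem_succ (i := i) hi (by omega)
        obtain ⟨ε, hε⟩ := exists_wt_coord (γ := γ) h hi (by omega) hx hx'
        have h5 := wt_comm (γ := γ) hi hx hε (hre i hi) hγe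
        have hc : ⁅x, e⁆ ∈ P ↥S (i + 1) := comm_mem hi hx e
        obtain ⟨q, hq⟩ := dvd_of_two_wt h hc
          (comm_notMem_of_M h hi (by omega) (heM _ hi (by omega)) hx hx') h5
          (ih (i + 1) (by omega) (by omega) _ hc)
        refine wt_of_one h hi (by omega) hx hx' (wt_congr h hx ⟨-q, ?_⟩ hε)
        rw [pow_succ]
        linear_combination -hq
    -- the layer `n - 2`
    have hw2 : Wt γ (n - 2) (-1) := by
      obtain ⟨x, hx, hx'⟩ := h.exists_notMem_succ (i := n - 3) (by omega) (by omega)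
      have h5 := wt_comm (γ := γ) (by omega) hx (halt 0 (n - 3) (by omega) (by omega) x hx)
        (hre _ (by omega)) hγe
      rw [pow_zero, one_mul, show n - 3 + 2 = n - 2 + 1 by omega] at h5
      refine wt_of_one h (by omega) (by omega) (P_anti (by omega) (comm_mem (by omega) hx e)) ?_ h5
      have := comm_notMem_of_M h (by omega) (by omega) (heM (n - 3) (by omega) le_rfl) hx hx'
      rwa [show n - 3 + 2 = n - 2 + 1 by omega] at this
    obtain ⟨x, hx, hxM⟩ := SetLike.not_le_iff_exists.1 hP1M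
    obtain ⟨z, hz, hzx⟩ : ∃ z ∈ P ↥S (n - 2), ⁅z, x⁆ ∉ P ↥S (n - 2 + 2) := by
      by_contra hne
      push Not at hne
      exact hxM (mem_M.2 hne)
    have hw1 := halt (n - 4) 1 (by omega) le_rfl
    have hγx : γ x = (γ x * (x ^ ((-1 : ℤ) ^ (n - 4)))⁻¹) * x ^ (1 : ℤ) := by
      have : (-1 : ℤ) ^ (n - 4) = 1 := by
        obtain ⟨k, hk⟩ := hev
        exact Even.neg_one_pow ⟨k - 2, by omega⟩
      rw [this, zpow_one, inv_mul_cancel_right]
    have h8 := wt_comm (γ := γ) (by omega) hz (hw2 z hz)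
      (fun b hb => comm_le (by omega) (by omega) hb (hw1 x hx)) hγx
    have hc0 : ⁅z, x⁆ ≠ 1 := fun hc => hzx (hc ▸ one_mem _)
    have hcZ : ⁅z, x⁆ ∈ P ↥S (n - 1) := P_anti (by omega) (comm_mem (by omega) hz x)
    have hγc : γ ⁅z, x⁆ = ⁅z, x⁆⁻¹ := by
      have h9 := h.eq_one (by omega) h8
      rw [mul_inv_eq_one, mul_one, zpow_neg_one] at h9
      exact h9
    have hcp : ⁅z, x⁆ ^ p = 1 := h.eq_one (by omega) (h.pow_mem_succ hcZ)
    have hcW : ⁅z, x⁆ ∈ E₀ ⊓ P ↥S 2 := hW.ge (P_anti (by omega) hcZ)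
    have hcY' := h4 _ hcW
    rw [hγc] at hcY'
    have hcY2 : ⁅z, x⁆ ∈ Y := by
      obtain ⟨k, hk⟩ : Odd p := hp.out.odd_of_ne_two (by omega)
      have := pow_mem (inv_mem hcY') (k + 1)
      rwa [show (⁅z, x⁆⁻¹ * ⁅z, x⁆⁻¹)⁻¹ = ⁅z, x⁆ ^ 2 by rw [pow_two]; group, ← pow_mul,
        show 2 * (k + 1) = p + 1 by omega, pow_succ, hcp, one_mul] at this
    have hgenY : Subgroup.zpowers (⟨⁅z, x⁆, hcY2⟩ : Y) = ⊤ :=
      zpowers_eq_top_of_prime_card hcY fun hh => hc0 (congrArg Subtype.val hh)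
    obtain ⟨a, ha, ha'⟩ := h.exists_notMem_succ (i := n - 3) (by omega) (by omega)
    have hmem : ⁅a, e⁆ ∈ Y := Subgroup.commutator_mem_commutator ha (Subgroup.mem_sup_left he)
    obtain ⟨i, hi⟩ := Subgroup.mem_zpowers_iff.1 (hgenY ▸ Subgroup.mem_top (⟨⁅a, e⁆, hmem⟩ : Y))
    refine comm_notMem_of_M h (by omega) (by omega) (heM (n - 3) (by omega) le_rfl) ha ha' ?_
    rw [← show ⁅z, x⁆ ^ i = ⁅a, e⁆ from congrArg Subtype.val hi]
    exact P_anti (by omega) (zpow_mem hcZ i)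

/-- Main statement. -/
theorem false_of_abelian (hS : IsPGroup p S) (hF : F.IsSaturated p) (h : MC p n ↥S) (hp3 : 3 ≤ p) (hn : 5 ≤ n)
    {E₀ : Subgroup ↥S} (hess : F.IsEssential p (up E₀)) (hab : ∀ a ∈ E₀, ∀ b ∈ E₀, a * b = b * a)
    (hc : Nat.card E₀ = p ^ 3) : False := by
  have hES : up E₀ ≤ S := up_le _
  haveI := finite_sub hES
  haveI : Finite (MulAut (up E₀)) := Finite.of_injective (fun f => (f : up E₀ → up E₀)) DFunLike.coe_injective
  have habU : ∀ x y : up E₀, x * y = y * x := by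
    rintro ⟨_, x, hx, rfl⟩ ⟨_, y, hy, rfl⟩
    exact Subtype.ext (show (x : Ω) * y = y * x from congrArg Subtype.val (hab x hx y hy))
  have hcU : Nat.card (up E₀) = p ^ 3 := (card_up _).trans hc
  have hself : centralizerIn S (up E₀) = up E₀ := by
    refine le_antisymm (hess.1.2 _ (isConj_refl F hES)) fun x hx => mem_centralizerIn'.2 ⟨hES hx, fun y hy => ?_⟩
    have := congrArg Subtype.val (habU ⟨x, hx⟩ ⟨y, hy⟩)
    simp only [Subgroup.coe_mul] at this
    rw [this, mul_inv_cancel_right]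
  have hUN : Nat.card (Subgroup.normalizer (E₀ : Set ↥S)) = Nat.card (autInducedBy S (up E₀)) * p ^ 3 := by
    rw [← card_up, normalizer_up, card_normalizerIn, hself, hcU]
  -- values of induced automorphisms
  have hu : ∀ u ∈ autInducedBy S (up E₀), ∃ g ∈ Subgroup.normalizer (E₀ : Set ↥S),
      ∀ x : up E₀, ((u x : up E₀) : Ω) = (g : Ω) * x * (g : Ω)⁻¹ := by
    intro u hu
    obtain ⟨g, hg, he⟩ := mem_autInducedBy.1 hu
    refine ⟨⟨g, hg⟩, Fgs55.mem_normalizer_of_forall fun a ha => (mem_up _).1 ?_, he⟩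
    have := he ⟨a, (mem_up a).2 ha⟩
    show g * (a : Ω) * g⁻¹ ∈ up E₀
    rw [← this]
    exact SetLike.coe_mem _
  have hcomm : ∀ u ∈ autInducedBy S (up E₀), ∀ A : Subgroup ↥S, (∀ g ∈ Subgroup.normalizer (E₀ : Set ↥S),
      ∀ x ∈ E₀, ⁅g, x⁆ ∈ A) → ∀ x : up E₀, x⁻¹ * u x ∈ (up A).subgroupOf (up E₀) := by
    intro u hu' A hA x
    obtain ⟨g, hg, he⟩ := hu u hu'
    obtain ⟨_, a, ha, rfl⟩ := x
    refine Subgroup.mem_subgroupOf.2 ⟨(⁅g, a⁻¹⁆)⁻¹, inv_mem (hA g hg _ (inv_mem ha)), ?_⟩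
    rw [Subgroup.coe_mul, Subgroup.coe_inv, he]
    show ((⁅g, a⁻¹⁆⁻¹ : ↥S) : Ω) = (a : Ω)⁻¹ * ((g : Ω) * a * (g : Ω)⁻¹)
    simp only [commutatorElement_def, Subgroup.coe_inv, Subgroup.coe_mul]
    group
  by_cases hN : Nat.card (Subgroup.normalizer (E₀ : Set ↥S)) ≤ p ^ 4
  swap
  · -- two or more transvections
    have hne : ∀ {A : Subgroup ↥S} {k : ℕ}, Nat.card A = p ^ (k + 1) → A ≠ ⊥ := fun hA hb => by
      rw [hb, Subgroup.card_bot] at hA
      exact absurd hA.symm (Nat.one_lt_pow (Nat.succ_ne_zero _) hp.out.one_lt).ne'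
    obtain ⟨W, hWE, hWc, hW⟩ := exists_below h (hne (k := 2) hc)
    have hWc' : Nat.card W = p ^ 2 := Nat.eq_of_mul_eq_mul_left hp.out.pos (by rw [← hWc, hc, ← pow_succ'])
    obtain ⟨Z, hZW, hZc, hZ⟩ := exists_below h (hne (k := 1) hWc')
    have hZc' : Nat.card Z = p ^ 1 := Nat.eq_of_mul_eq_mul_left hp.out.pos (by rw [← hZc, hWc', ← pow_succ'])
    obtain ⟨T, -, hTc, hT⟩ := exists_below h (hne (k := 0) hZc')
    have hTb : T = ⊥ := Subgroup.eq_bot_of_card_eq _ (Nat.eq_of_mul_eq_mul_left hp.out.pos (by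
      rw [← hTc, hZc', pow_one, mul_one]))
    have hnW : ∀ g ∈ Subgroup.normalizer (E₀ : Set ↥S), g ∈ Subgroup.normalizer (W : Set ↥S) := fun g hg =>
      Fgs55.mem_normalizer_of_forall fun a ha => by
        rw [show g * a * g⁻¹ = ⁅g, a⁆ * a by group]
        exact mul_mem (hW a (hWE ha) g hg) ha
    have hnZ : ∀ g ∈ Subgroup.normalizer (E₀ : Set ↥S), g ∈ Subgroup.normalizer (Z : Set ↥S) := fun g hg =>
      Fgs55.mem_normalizer_of_forall fun a ha => by
        rw [show g * a * g⁻¹ = ⁅g, a⁆ * a by group]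
        exact mul_mem (hZ a (hZW ha) g (hnW g hg)) ha
    have hcard : ∀ A : Subgroup ↥S, A ≤ E₀ → Nat.card ((up A).subgroupOf (up E₀)) = Nat.card A := fun A hA =>
      (Nat.card_congr (Subgroup.subgroupOfEquivOfLe (Subgroup.map_mono hA : up A ≤ up E₀)).toEquiv).trans (card_up A)
    have hlt := card_autInducedBy_lt hS hF hess habU hcU
      (Z := (up Z).subgroupOf (up E₀)) (W := (up W).subgroupOf (up E₀))
      (by rw [hcard Z (hZW.trans hWE), hZc', pow_one]) (Subgroup.subgroupOf_mono _ (Subgroup.map_mono hZW))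
      (by rw [hcard W hWE, hWc']) ?_ ?_ (fun u hu' => hcomm u hu' W fun g hg x hx => hW x hx g hg)
    · refine hN (hUN.le.trans ?_)
      obtain ⟨i, hi⟩ := IsPGroup.iff_card.1 (isPGroup_autInducedBy hS (up E₀))
      rw [hi, Nat.pow_lt_pow_iff_right hp.out.one_lt] at hlt
      rw [hi, ← pow_add]
      exact Nat.pow_le_pow_right hp.out.pos (by omega)
    · intro u hu' x hx
      obtain ⟨g, hg, he⟩ := hu u hu'
      obtain ⟨a, ha, hax⟩ := Subgroup.mem_subgroupOf.1 hx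
      refine Subtype.ext ?_
      rw [he, ← hax]
      have h0 : ⁅g, a⁆ = 1 := Subgroup.mem_bot.1 (hTb ▸ hT a ha g (hnZ g hg))
      rw [commutatorElement_eq_one_iff_mul_comm] at h0
      have := congrArg Subtype.val h0
      simp only [Subgroup.coe_mul] at this
      show (g : Ω) * a * (g : Ω)⁻¹ = a
      rw [this, mul_inv_cancel_right]
    · intro u hu' x hx
      obtain ⟨g, hg, he⟩ := hu u hu'
      obtain ⟨a, ha, hax⟩ := Subgroup.mem_subgroupOf.1 hx
      refine Subgroup.mem_subgroupOf.2 ⟨(⁅g, a⁻¹⁆)⁻¹, inv_mem (hZ _ (inv_mem ha) g (hnW g hg)), ?_⟩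
      rw [Subgroup.coe_mul, Subgroup.coe_inv, he, ← hax]
      show ((⁅g, a⁻¹⁆⁻¹ : ↥S) : Ω) = (a : Ω)⁻¹ * ((g : Ω) * a * (g : Ω)⁻¹)
      simp only [commutatorElement_def, Subgroup.coe_inv, Subgroup.coe_mul]
      group
  · have hs := s3_of_conj h hp3 hn hS hF hess hab hc hN (conj_refl' h hp3 hn hS hF hess hab hc hN)
    have hU : Nat.card (autInducedBy S (up E₀)) = p := by
      rw [hs.card_normalizer] at hUN
      exact Nat.eq_of_mul_eq_mul_right (pow_pos hp.out.pos 3) (hUN.symm.trans (pow_succ' p 3))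
    have hleW : up (E₀ ⊓ P ↥S 2) ≤ up E₀ := Subgroup.map_mono inf_le_left
    obtain ⟨σ, hσ, hσc, -, hσW, hσE⟩ := exists_involution hS hF hess habU hcU
      (W := (up (E₀ ⊓ P ↥S 2)).subgroupOf (up E₀))
      (by rw [Nat.card_congr (Subgroup.subgroupOfEquivOfLe hleW).toEquiv, card_up, hs.card_inf h hp3 hn]) hU
      (fun u hu' x hx => by
        obtain ⟨g, hg, he⟩ := hu u hu'
        obtain ⟨a, ha, hax⟩ := Subgroup.mem_subgroupOf.1 hx
        refine Subtype.ext ?_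
        rw [he, ← hax]
        have h0 := congrArg Subtype.val (hs.inf_central h hp3 hn ha hg).eq
        simp only [Subgroup.coe_mul] at h0
        show (g : Ω) * a * (g : Ω)⁻¹ = a
        rw [← h0, mul_inv_cancel_right])
      (fun u hu' => hcomm u hu' _ fun g hg x hx => ⟨by
        rw [show ⁅g, x⁆ = g * x * g⁻¹ * x⁻¹ by group]
        exact E₀.mul_mem (Fgs55.conj_mem hg hx) (E₀.inv_mem hx), comm_mem_top g x⟩)
    obtain ⟨γ, hγ⟩ := extend_to_base h hp3 hn hS hF hess hab hc hN hσ hσc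
    have hγ' : ∀ x (hx : x ∈ E₀), ((γ x : ↥S) : Ω) = ((σ ⟨(x : Ω), (mem_up x).2 hx⟩ : up E₀) : Ω) :=
      fun x hx => (hγ ⟨x, hx⟩).symm
    refine false_of_extension h hp3 hn hs γ (fun e he => ?_) (fun g hg => ?_) fun w hw => ?_
    · obtain ⟨a, ha, hae⟩ := Subgroup.mem_subgroupOf.1 (hσE ⟨(e : Ω), (mem_up e).2 he⟩)
      have hγE : γ e ∈ E₀ := (mem_up _).1 (by rw [hγ' e he]; exact SetLike.coe_mem _)
      rw [hab _ hγE _ he]
      rwa [show e * γ e = a from Subtype.ext (by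
        show (e : Ω) * ((γ e : ↥S) : Ω) = (a : Ω)
        rw [hγ' e he]; exact hae.symm)]
    · refine hs.self (Subgroup.mem_centralizer_iff.2 fun y hy => ?_)
      obtain ⟨x, hx, rfl⟩ : ∃ x ∈ E₀, γ x = y := by
        refine ⟨_, mem_up' (σ.symm ⟨(y : Ω), (mem_up y).2 hy⟩).2, Subtype.ext ?_⟩
        rw [hγ' _ (mem_up' (σ.symm ⟨(y : Ω), (mem_up y).2 hy⟩).2)]
        exact congrArg Subtype.val (σ.apply_symm_apply _)
      -- `γ` commutes with conjugation by `g` on `E₀`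
      have hxg : g * x * g⁻¹ ∈ E₀ := Fgs55.conj_mem hg hx
      have hgN : (g : Ω) ∈ normalizerIn S (up E₀) := (normalizer_up E₀).le ⟨g, hg, rfl⟩
      have hcu := hσc ((up E₀).normalizerMonoidHom ⟨(g : Ω), hgN.2⟩)
        (mem_autInducedBy.2 ⟨(g : Ω), g.2, fun _ => rfl⟩)
      have h5 := congrArg (fun f : MulAut (up E₀) => ((f ⟨(x : Ω), (mem_up x).2 hx⟩ : up E₀) : Ω)) hcu
      have h6 : γ (g * x * g⁻¹) = g * γ x * g⁻¹ := by
        refine Subtype.ext ?_
        rw [hγ' _ hxg]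
        show _ = (g : Ω) * ((γ x : ↥S) : Ω) * (g : Ω)⁻¹
        rw [hγ' x hx]
        exact h5
      rw [map_mul, map_mul, map_inv] at h6
      calc γ x * (g⁻¹ * γ g) = g⁻¹ * (g * γ x * g⁻¹) * γ g := by group
        _ = g⁻¹ * (γ g * γ x * (γ g)⁻¹) * γ g := by rw [h6]
        _ = g⁻¹ * γ g * γ x := by group
    · obtain ⟨u, hu', x, hx⟩ := hσW ⟨(w : Ω), (mem_up w).2 hw.1⟩ (Subgroup.mem_subgroupOf.2 ((mem_up w).2 hw))
      have hcm : ∀ a ∈ P ↥S (n - 3), ∀ b ∈ P ↥S (n - 3), Commute a b := fun a ha b hb => comm_three h hp3 hn ha hb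
      obtain ⟨-, hYW⟩ := hs.commutator_facts h hp3 hn (j := n - 3) (by omega) le_rfl hcm
      obtain ⟨g, hg, he⟩ := hu u hu'
      obtain ⟨_, a, ha, rfl⟩ := x
      have hmem : ⁅a⁻¹, g⁆ ∈ ⁅P ↥S (n - 3), E₀ ⊔ P ↥S (n - 3)⁆ := by
        rw [hs.normalizer_eq h hp3 hn] at hg
        obtain ⟨e, he', b, hb, rfl⟩ := Subgroup.mem_sup_of_normal_right.1 hg
        have h7 : ⁅a⁻¹, b⁆ ∈ ⁅P ↥S (n - 3), E₀ ⊔ P ↥S (n - 3)⁆ := by
          rw [← commutatorElement_inv]
          exact inv_mem (Subgroup.commutator_mem_commutator hb (Subgroup.mem_sup_left (inv_mem ha)))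
        have h8 : Commute e ⁅a⁻¹, b⁆ := hs.comm e he' _ (hYW h7).1
        rwa [show ⁅a⁻¹, e * b⁆ = ⁅a⁻¹, e⁆ * (e * ⁅a⁻¹, b⁆ * e⁻¹) by group,
          commutatorElement_eq_one_iff_commute.2 (hs.comm _ (inv_mem ha) e he'), one_mul, h8.eq, mul_inv_cancel_right]
      rw [show w⁻¹ * γ w = ⁅a⁻¹, g⁆ from Subtype.ext (by
        show (w : Ω)⁻¹ * ((γ w : ↥S) : Ω) = ((⁅a⁻¹, g⁆ : ↥S) : Ω)
        rw [hγ' w hw.1]
        refine (congrArg Subtype.val hx).trans ?_
        rw [Subgroup.coe_mul, Subgroup.coe_inv, he]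
        simp only [commutatorElement_def, Subgroup.coe_inv, Subgroup.coe_mul, inv_inv]
        show (a : Ω)⁻¹ * ((g : Ω) * a * (g : Ω)⁻¹) = _
        group)]
      exact hmem

end Cfsg.Agent.Lib.Soft3
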