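import Cfsg.Agent.Lib.Soft3.Group

/-!
The subgroups between `E ⊔ P (j+1)` and `E ⊔ P j`, and the bottom of their invariant series.

Owner: helper78.
-/

set_option autoImplicit false
set_option linter.style.haveILetI false
set_option linter.unusedSectionVars false

open scoped commutatorElement

namespace Cfsg.Agent.Lib.Soft3

open Cfsg.Agent.Lib Cfsg.Agent.Lib.MaxClass

universe u

variable {p n : ℕ} [hp : Fact p.Prime] {X : Type u} [Group X] [Finite X]
variable {E : Subgroup X} (h : MC p n X) (hp3 : 3 ≤ p) (hn : 5 ≤ n)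
include h hp3 hn

/-- `W` is normalised by `N(N(E))`. -/
theorem S3.inf_conj_mem (hE : S3 p E) {g w : X} (hg : g ∈ Subgroup.normalizer
    ((E ⊔ P X (n - 3) : Subgroup X) : Set X)) (hw : w ∈ E ⊓ P X 2) : g * w * g⁻¹ ∈ E ⊓ P X 2 := by
  rw [← hE.normalizer_eq h hp3 hn] at hg
  rw [← hE.inf_eq_center h hp3 hn] at hw ⊢
  refine ⟨Fgs55.conj_mem hg hw.1, Subgroup.mem_centralizer_iff.2 fun a ha => ?_⟩
  have ha' : g⁻¹ * a * g⁻¹⁻¹ ∈ Subgroup.normalizer (E : Set X) := Fgs55.conj_mem (inv_mem hg) ha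
  rw [inv_inv] at ha'
  have h1 : g⁻¹ * a * g * w = w * (g⁻¹ * a * g) := Subgroup.mem_centralizer_iff.1 hw.2 _ ha'
  calc a * (g * w * g⁻¹) = g * (g⁻¹ * a * g * w) * g⁻¹ := by group
    _ = g * (w * (g⁻¹ * a * g)) * g⁻¹ := by rw [h1]
    _ = g * w * g⁻¹ * a := by group

/-- A subgroup of index `p` in `E ⊔ P j` other than `P j` contains a conjugate of `E`. -/
theorem S3.exists_conj_le (hE : S3 p E) {j : ℕ} (hj : 2 ≤ j) (hjn : j ≤ n - 3) {M : Subgroup X}
    (hM : M ≤ E ⊔ P X j) (hMc : Nat.card M = Nat.card (P X j)) (hMne : M ≠ P X j)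
    (hbase : j = n - 3 → E ⊓ P X 2 ≤ M) (hstep : j < n - 3 → P X (j + 1) ≤ M) :
    ∃ g : X, E.map (MulAut.conj g).toMonoidHom ≤ M := by
  set W := E ⊓ P X 2 with hW
  set R : Subgroup X := if j = n - 3 then W else P X (j + 1) with hR
  have hRM : R ≤ M := by
    rw [hR]; split_ifs with hb
    exacts [hbase hb, hstep (by omega)]
  have hRB : R ≤ P X j := by
    rw [hR]; split_ifs with hb
    · exact hb ▸ hE.inf_two_le h hp3 hn
    · exact P_succ_le j
  have hWR : W ≤ R := by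
    rw [hR]; split_ifs with hb
    · exact le_rfl
    · exact (hE.inf_two_le h hp3 hn).trans (P_anti (by omega))
  have hRc : Nat.card R = p ^ (n - j - 1) := by
    rw [hR]; split_ifs with hb
    · rw [hW, hE.card_inf h hp3 hn]; congr 1; omega
    · rw [h.card_P (by omega) (by omega), Nat.sub_sub]
  -- normalisers of `R`
  have hnormK : ∀ g ∈ E ⊔ P X (j - 1), g ∈ Subgroup.normalizer (R : Set X) := by
    rw [hR]; split_ifs with hb
    · intro g hg
      refine Fgs55.mem_normalizer_of_forall fun w hw => hE.inf_conj_mem h hp3 hn ?_ hw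
      rcases Nat.lt_or_ge j 3 with h3 | h3
      · obtain rfl : j = 2 := by omega
        rw [← hb, hE.normalizer_sup_two h hp3 hn]
        trivial
      · rw [← hb, hE.normalizer_sup h hp3 hn h3 hjn]
        exact hg
    · intro g _
      rw [Subgroup.normalizer_eq_top_iff.2 (P_normal (j + 1))]
      trivial
  have hnorm : ∀ g ∈ Subgroup.normalizer ((E ⊔ P X j : Subgroup X) : Set X), g ∈ Subgroup.normalizer (R : Set X) := by
    intro g hg
    rcases Nat.lt_or_ge j 3 with h3 | h3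
    · obtain rfl : j = 2 := by omega
      rw [hR]; split_ifs with hb
      · refine Fgs55.mem_normalizer_of_forall fun w hw => hE.inf_conj_mem h hp3 hn ?_ hw
        rwa [← hb]
      · rw [Subgroup.normalizer_eq_top_iff.2 (P_normal (2 + 1))]
        trivial
    · rw [hE.normalizer_sup h hp3 hn h3 hjn] at hg
      exact hnormK g hg
  -- a mover
  have hKne : E ⊔ P X j ≠ ⊤ := fun he => by
    have := hE.card_sup h hp3 hn hj hjn
    rw [he, Subgroup.card_top, h.card] at this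
    have := Nat.pow_right_injective hp.out.two_le this
    omega
  obtain ⟨e, he, he2, hgen⟩ := hE.exists_gen h hp3 hn
  set K' : Subgroup X := if j = n - 3 then E else E ⊔ P X (j + 1) with hK'
  have hK'N : Subgroup.normalizer (K' : Set X) = E ⊔ P X j := by
    rw [hK']; split_ifs with hb
    · rw [hE.normalizer_eq h hp3 hn, hb]
    · rw [hE.normalizer_sup h hp3 hn (by omega) (by omega), Nat.add_sub_cancel]
  obtain ⟨s, -, hsK, hsN⟩ := Fgs55.exists_normalizing h.isPGroup (le_top : E ⊔ P X j ≤ ⊤) hKne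
  obtain ⟨t, ht⟩ : ∃ t, ⁅s, e⁆ = t := ⟨_, rfl⟩
  have htB : t ∈ P X j := by
    rw [← hE.sup_inf_two h hp3 hn hj hjn]
    refine ⟨?_, ht ▸ comm_mem_top s e⟩
    rw [← ht, show ⁅s, e⁆ = s * e * s⁻¹ * e⁻¹ by group]
    exact (E ⊔ P X j).mul_mem (Fgs55.conj_mem hsN (Subgroup.mem_sup_left he))
      ((E ⊔ P X j).inv_mem (Subgroup.mem_sup_left he))
  have htR : t ∉ R := fun htR => by
    refine hsK (hK'N ▸ Fgs55.mem_normalizer_of_forall fun a ha => ?_)
    have hsR := hnorm s hsN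
    have hRK' : R ≤ K' := by
      rw [hR, hK']; split_ifs with hb
      exacts [inf_le_left, le_sup_right]
    have hse : s * e * s⁻¹ ∈ K' := by
      rw [show s * e * s⁻¹ = t * e by rw [← ht]; group]
      refine mul_mem (hRK' htR) ?_
      rw [hK']; split_ifs with hb
      exacts [he, Subgroup.mem_sup_left he]
    have hEmove : ∀ x ∈ E, s * x * s⁻¹ ∈ K' := fun x hx => by
      obtain ⟨k, w, hw, rfl⟩ := hgen x hx
      rw [show s * (w * e ^ k) * s⁻¹ = (s * w * s⁻¹) * (s * e * s⁻¹) ^ k by rw [conj_zpow]; group]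
      exact mul_mem (hRK' (Fgs55.conj_mem hsR (hWR hw))) (zpow_mem hse k)
    revert ha
    rw [hK']
    split_ifs with hb
    · intro ha
      have := hEmove a ha
      rwa [hK', if_pos hb] at this
    · intro ha
      suffices hs : E ⊔ P X (j + 1) ≤ (E ⊔ P X (j + 1) : Subgroup X).comap (MulAut.conj s).toMonoidHom by
        exact hs ha
      refine sup_le (fun x hx => ?_) fun x hx => ?_
      · have := hEmove x hx
        rwa [hK', if_neg hb] at this
      · exact Subgroup.mem_sup_right ((P_normal _).conj_mem x hx s)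
  have hst : ⁅s, t⁆ ∈ R := by
    rw [hR]; split_ifs with hb
    · rcases hE.toBase.side h hp3 hn with h1 | h1
      · rw [← commutatorElement_inv]
        refine inv_mem ?_
        by_cases hM2 : E ≤ MaxClass.M X (n - 2)
        · rw [hW, hE.inf_eq_Z2 h hp3 hn hM2]
          exact P_anti (by omega) (comm_mem (by omega) (hb ▸ htB) s)
        · have hn6 : 6 ≤ n := by
            by_contra hlt
            refine hM2 (h1.trans (h.P_one_le_M (h.deg hp3 (Or.inl ?_)) (by omega) (by omega)))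
            exact ⟨2, by omega⟩
          refine ⟨hE.toBase.last_le h (P_anti (by omega) (comm_P_one h hp3 hn (by omega) le_rfl (hb ▸ htB) ?_)),
            P_anti (by omega) (comm_P_one h hp3 hn (by omega) le_rfl (hb ▸ htB) ?_)⟩
          all_goals
            rw [hb, hE.normalizer_sup h hp3 hn (by omega) le_rfl] at hsN
            exact sup_le h1 (P_anti (by omega)) hsN
      · rw [hW, hE.inf_eq_Z2 h hp3 hn h1]
        exact P_anti (by omega) (comm_mem' (by omega) (hb ▸ htB) s)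
    · exact comm_mem' (by omega) htB s
  have hte : ⁅t, e⁆ ∈ R := by
    rw [hR]; split_ifs with hb
    · refine ⟨?_, comm_mem_top t e⟩
      rw [show ⁅t, e⁆ = t * e * t⁻¹ * e⁻¹ by group]
      exact E.mul_mem (Fgs55.conj_mem (hE.toBase.three_le_normalizer h hp3 hn (hb ▸ htB)) he) (E.inv_mem he)
    · exact comm_mem (by omega) htB e
  have hep : e ^ p ∈ R := by
    refine hWR ?_
    have hidx : ((P X 2).subgroupOf E).index = p := by
      have h1 := ((P X 2).subgroupOf E).card_mul_index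
      rw [← Subgroup.card_map_of_injective E.subtype_injective, Subgroup.subgroupOf_map_subtype, inf_comm,
        hE.card_inf h hp3 hn, hE.card] at h1
      exact Nat.eq_of_mul_eq_mul_left (pow_pos hp.out.pos 2) (h1.trans (pow_succ p 2))
    haveI : ((P X 2).subgroupOf E).Normal := inferInstance
    have := Subgroup.pow_index_mem ((P X 2).subgroupOf E) ⟨e, he⟩
    rw [hidx] at this
    exact ⟨pow_mem he p, this⟩
  -- compute modulo `R`
  set H := Subgroup.normalizer (R : Set X) with hH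
  haveI : (R.subgroupOf H).Normal := Subgroup.normal_in_normalizer
  let π := QuotientGroup.mk' (R.subgroupOf H)
  have hker : ∀ x : H, π x = 1 ↔ (x : X) ∈ R := fun x =>
    (QuotientGroup.eq_one_iff x).trans Subgroup.mem_subgroupOf
  have hEK : E ⊔ P X j ≤ E ⊔ P X (j - 1) := sup_le_sup_left (P_anti (by omega)) E
  let s' : H := ⟨s, hnorm s hsN⟩
  let e' : H := ⟨e, hnormK e (Subgroup.mem_sup_left he)⟩
  let t' : H := ⟨t, hnormK t (hEK (Subgroup.mem_sup_right htB))⟩
  have c1 : Commute (π s') (π t') := by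
    rw [← commutatorElement_eq_one_iff_commute, ← map_commutatorElement, hker]
    exact hst
  have c2 : Commute (π t') (π e') := by
    rw [← commutatorElement_eq_one_iff_commute, ← map_commutatorElement, hker]
    exact hte
  have hsemi : SemiconjBy (π e') (π t' * π s') (π s') := by
    show π e' * (π t' * π s') = π s' * π e'
    rw [← mul_assoc, ← c2.eq, ← map_mul, ← map_mul, ← map_mul]
    refine congrArg π (Subtype.ext ?_)
    show t * e * s = s * e
    rw [← ht]; group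
  have hconj : ∀ i : ℤ, π s' ^ i * π e' * (π s' ^ i)⁻¹ = π t' ^ i * π e' := fun i => by
    rw [← (hsemi.zpow_right i).eq, c1.symm.mul_zpow, ← mul_assoc, mul_inv_cancel_right, (c2.zpow_left i).eq]
  -- an element of `M` outside `P j`
  obtain ⟨m, hmM, hmB⟩ : ∃ m ∈ M, m ∉ P X j := SetLike.not_le_iff_exists.1 fun hle =>
    hMne (Subgroup.eq_of_le_of_card_ge hle hMc.ge)
  obtain ⟨x, hx, a, ha, rfl⟩ : ∃ x ∈ E, ∃ a ∈ P X j, x * a = m := Subgroup.mem_sup_of_normal_right.1 (hM hmM)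
  obtain ⟨k, w, hw, rfl⟩ := hgen x hx
  have hk : ¬ (p : ℤ) ∣ k := by
    rintro ⟨q, rfl⟩
    refine hmB (mul_mem (mul_mem (hRB (hWR hw)) ?_) ha)
    rw [zpow_mul, zpow_natCast]
    exact zpow_mem (hRB hep) q
  obtain ⟨k', q, hkq⟩ : ∃ k' q : ℤ, k * k' + q * p = 1 := by
    obtain ⟨u, v, huv⟩ := (Nat.prime_iff_prime_int.1 hp.out).coprime_iff_not_dvd.2 hk
    exact ⟨v, u, by linear_combination huv⟩
  obtain ⟨l, hl⟩ : ∃ l : ℤ, π ⟨a, hnormK a (hEK (Subgroup.mem_sup_right ha))⟩ = π t' ^ l := by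
    let Q : Subgroup X :=
      { carrier := {a | ∃ ha : a ∈ H, π ⟨a, ha⟩ ∈ Subgroup.zpowers (π t')}
        one_mem' := ⟨one_mem H, by
          rw [show π (⟨1, one_mem H⟩ : H) = 1 from map_one π]; exact one_mem _⟩
        mul_mem' := fun {a b} ha hb => ⟨mul_mem ha.1 hb.1, by
          rw [show π (⟨a * b, mul_mem ha.1 hb.1⟩ : H) = π ⟨a, ha.1⟩ * π ⟨b, hb.1⟩ from map_mul π ⟨a, ha.1⟩ ⟨b, hb.1⟩]
          exact mul_mem ha.2 hb.2⟩
        inv_mem' := fun {a} ha => ⟨inv_mem ha.1, by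
          rw [show π (⟨a⁻¹, inv_mem ha.1⟩ : H) = (π ⟨a, ha.1⟩)⁻¹ from map_inv π ⟨a, ha.1⟩]
          exact inv_mem ha.2⟩ }
    have hle : R ⊔ Subgroup.zpowers t ≤ P X j := sup_le hRB (Subgroup.zpowers_le.2 htB)
    have heq : R ⊔ Subgroup.zpowers t = P X j := by
      refine Subgroup.eq_of_le_of_card_ge hle ?_
      obtain ⟨i, -, hi⟩ := (Nat.dvd_prime_pow hp.out).1
        (h.card_P (i := j) (by omega) (by omega) ▸ Subgroup.card_dvd_of_le hle)
      have hlt : Nat.card R < Nat.card (R ⊔ Subgroup.zpowers t : Subgroup X) :=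
        lt_of_le_of_ne (Subgroup.card_le_of_le le_sup_left) fun hc => htR
          ((Subgroup.eq_of_le_of_card_ge (le_sup_left : R ≤ _) hc.ge).symm ▸
            Subgroup.mem_sup_right (Subgroup.mem_zpowers t))
      rw [hRc, hi, Nat.pow_lt_pow_iff_right hp.out.one_lt] at hlt
      rw [h.card_P (by omega) (by omega), hi]
      exact Nat.pow_le_pow_right hp.out.pos (by omega)
    have hQ : R ⊔ Subgroup.zpowers t ≤ Q := by
      refine sup_le (fun r hr => ⟨Subgroup.le_normalizer hr, ?_⟩)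
        (Subgroup.zpowers_le.2 ⟨t'.2, Subgroup.mem_zpowers _⟩)
      rw [(hker ⟨r, Subgroup.le_normalizer hr⟩).2 hr]
      exact one_mem _
    obtain ⟨_, i, hi⟩ := hQ (heq.ge ha)
    exact ⟨i, hi.symm⟩
  refine ⟨s ^ (l * k'), ?_⟩
  rintro _ ⟨x, hx, rfl⟩
  obtain ⟨k₁, w₁, hw₁, rfl⟩ := hgen x hx
  have hmem : s ^ (l * k') * e * (s ^ (l * k'))⁻¹ ∈ M := by
    have hmH : w * e ^ k * a ∈ H :=
      mul_mem (mul_mem (Subgroup.le_normalizer (hWR hw)) (zpow_mem e'.2 k)) (hnormK a (hEK (Subgroup.mem_sup_right ha)))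
    have hm' : π ⟨w * e ^ k * a, hmH⟩ = π e' ^ k * π t' ^ l := by
      rw [show (⟨w * e ^ k * a, hmH⟩ : H) =
        ⟨w, Subgroup.le_normalizer (hWR hw)⟩ * e' ^ k * ⟨a, hnormK a (hEK (Subgroup.mem_sup_right ha))⟩ from rfl,
        map_mul, map_mul, (hker ⟨w, Subgroup.le_normalizer (hWR hw)⟩).2 (hWR hw), one_mul, map_zpow, hl]
    have hep' : π e' ^ p = 1 := by rw [← map_pow]; exact (hker (e' ^ p)).2 hep
    have h1 : π (s' ^ (l * k') * e' * (s' ^ (l * k'))⁻¹) = π (⟨w * e ^ k * a, hmH⟩ ^ k') := by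
      simp only [map_mul, map_inv, map_zpow]
      rw [hm', hconj, (c2.zpow_zpow l k).symm.mul_zpow, ← zpow_mul, ← zpow_mul,
        show k * k' = 1 + (p : ℤ) * (-q) by linear_combination hkq, zpow_add, zpow_one, zpow_mul _ (p : ℤ),
        zpow_natCast, hep', one_zpow, mul_one, (c2.zpow_left (l * k')).eq]
    have h2 := QuotientGroup.eq.1 h1.symm
    rw [Subgroup.mem_subgroupOf] at h2
    have h3 : (w * e ^ k * a) ^ k' ∈ M := zpow_mem hmM k'
    have := M.mul_mem h3 (hRM h2)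
    simpa [Subgroup.coe_mul, Subgroup.coe_zpow, Subgroup.coe_inv] using this
  show s ^ (l * k') * (w₁ * e ^ k₁) * (s ^ (l * k'))⁻¹ ∈ M
  rw [show s ^ (l * k') * (w₁ * e ^ k₁) * (s ^ (l * k'))⁻¹ =
    (s ^ (l * k') * w₁ * (s ^ (l * k'))⁻¹) * (s ^ (l * k') * e * (s ^ (l * k'))⁻¹) ^ k₁ by rw [conj_zpow]; group]
  exact mul_mem (hRM (Fgs55.conj_mem (zpow_mem (hnorm s hsN) _) (hWR hw₁))) (zpow_mem hmem k₁)

/-- Bottom of the series, first case. -/
theorem S3.inf_centralizer_eq (hE : S3 p E) {j : ℕ} (hj : 2 ≤ j) (hjn : j ≤ n - 3)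
    (hc : ∀ a ∈ P X j, ∀ b ∈ P X (n - 3), Commute a b) :
    P X (n - 3) ⊓ Subgroup.centralizer ((E ⊔ P X j : Subgroup X) : Set X) = E ⊓ P X 2 := by
  refine le_antisymm (fun a ha => ⟨hE.self (Subgroup.mem_centralizer_iff.2 fun e he =>
    Subgroup.mem_centralizer_iff.1 ha.2 e (Subgroup.mem_sup_left he)), P_anti (by omega) ha.1⟩) fun w hw => ?_
  have hw3 := hE.inf_two_le h hp3 hn hw
  refine ⟨hw3, Subgroup.mem_centralizer_iff.2 ?_⟩
  have hle : E ⊔ P X j ≤ Subgroup.centralizer ({w} : Set X) :=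
    sup_le (fun e he => Subgroup.mem_centralizer_singleton_iff.2 (hE.comm e he w hw.1))
      fun a ha => Subgroup.mem_centralizer_singleton_iff.2 (hc a ha w hw3).eq
  exact fun g hg => Subgroup.mem_centralizer_singleton_iff.1 (hle hg)

/-- The commutator of `P (n - 3)` with `E ⊔ P j` has order `p` and lies in `W`. -/
theorem S3.commutator_facts (hE : S3 p E) {j : ℕ} (hj : 2 ≤ j) (hjn : j ≤ n - 3)
    (hc : ∀ a ∈ P X j, ∀ b ∈ P X (n - 3), Commute a b) :
    Nat.card (⁅P X (n - 3), E ⊔ P X j⁆ : Subgroup X) = p ∧ ⁅P X (n - 3), E ⊔ P X j⁆ ≤ E ⊓ P X 2 := by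
  obtain ⟨e, he, he2, hgen⟩ := hE.exists_gen h hp3 hn
  have hN : ∀ a ∈ P X (n - 3), a ∈ Subgroup.normalizer (E : Set X) := hE.toBase.three_le_normalizer h hp3 hn
  have hval : ∀ a ∈ P X (n - 3), ∀ x ∈ E, ⁅a, x⁆ ∈ E ⊓ P X 2 := fun a ha x hx => ⟨by
    rw [show ⁅a, x⁆ = a * x * a⁻¹ * x⁻¹ by group]
    exact E.mul_mem (Fgs55.conj_mem (hN a ha) hx) (E.inv_mem hx), comm_mem_top a x⟩
  let f : P X (n - 3) →* X := MonoidHom.mk' (fun a => ⁅(a : X), e⁆) fun a b => by
    show ⁅(a : X) * b, e⁆ = ⁅(a : X), e⁆ * ⁅(b : X), e⁆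
    have h1 : Commute ((a : X)) ⁅(b : X), e⁆ :=
      (hE.inf_central h hp3 hn (hval _ b.2 e he) (hN _ a.2)).symm
    have h2 : Commute ⁅(b : X), e⁆ ⁅(a : X), e⁆ := hE.comm _ (hval _ b.2 e he).1 _ (hval _ a.2 e he).1
    rw [show ⁅(a : X) * b, e⁆ = a * ⁅(b : X), e⁆ * (a : X)⁻¹ * ⁅(a : X), e⁆ by group, h1.eq, mul_inv_cancel_right,
      h2.eq]
  have hf : ∀ a : P X (n - 3), f a = ⁅(a : X), e⁆ := fun _ => rfl
  have hker : (E ⊓ P X 2).subgroupOf (P X (n - 3)) ≤ f.ker := fun w hw => by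
    rw [MonoidHom.mem_ker, hf, commutatorElement_eq_one_iff_commute]
    exact hE.comm _ (Subgroup.mem_subgroupOf.1 hw).1 e he
  have hidx : ((E ⊓ P X 2).subgroupOf (P X (n - 3))).index = p := by
    have h1 := ((E ⊓ P X 2).subgroupOf (P X (n - 3))).card_mul_index
    rw [Nat.card_congr (Subgroup.subgroupOfEquivOfLe (hE.inf_two_le h hp3 hn)).toEquiv, hE.card_inf h hp3 hn,
      h.card_P (by omega) (by omega), show n - (n - 3) = 2 + 1 by omega] at h1
    exact Nat.eq_of_mul_eq_mul_left (pow_pos hp.out.pos 2) (h1.trans (pow_succ p 2))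
  have hkne : f.ker ≠ ⊤ := fun htop => by
    have hle : P X (n - 3) ≤ E := fun a ha => hE.self (Subgroup.mem_centralizer_iff.2 fun x hx => by
      obtain ⟨k, w, hw, rfl⟩ := hgen x hx
      have h1 : f ⟨a, ha⟩ = 1 := MonoidHom.mem_ker.1 (htop.symm ▸ Subgroup.mem_top _)
      rw [hf, commutatorElement_eq_one_iff_commute] at h1
      exact (Commute.mul_left (hE.inf_central h hp3 hn hw (hN a ha)) (h1.symm.zpow_left k)).eq)
    have hN' := hE.normalizer_eq h hp3 hn
    rw [sup_eq_left.2 hle] at hN'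
    have := hE.card_normalizer
    rw [hN', hE.card] at this
    exact absurd (Nat.pow_right_injective hp.out.two_le this) (by omega)
  have hkidx : f.ker.index = p := by
    have h1 := Subgroup.index_dvd_of_le hker
    rw [hidx] at h1
    exact ((Nat.dvd_prime hp.out).1 h1).resolve_left fun h2 => hkne (Subgroup.index_eq_one.1 h2)
  have hYW : f.range ≤ E ⊓ P X 2 := by
    rintro _ ⟨a, rfl⟩; exact hval _ a.2 e he
  have hle : ⁅P X (n - 3), E ⊔ P X j⁆ ≤ f.range := by
    rw [Subgroup.commutator_le]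
    intro a ha g hg
    -- elements `g` with `⁅a, g⁆` in the range, for all `a`
    have hfix : ∀ y ∈ f.range, ∀ g ∈ E ⊔ P X j, g * y * g⁻¹ = y := fun y hy g hg => by
      have hc' : Commute g y := by
        have := (S3.inf_centralizer_eq h hp3 hn hE hj hjn hc).ge (hYW hy)
        exact Subgroup.mem_centralizer_iff.1 this.2 g hg
      rw [hc'.eq, mul_inv_cancel_right]
    obtain ⟨x, hx, b, hb, rfl⟩ := Subgroup.mem_sup_of_normal_right.1 hg
    rw [show ⁅a, x * b⁆ = ⁅a, x⁆ * (x * ⁅a, b⁆ * x⁻¹) by group,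
      commutatorElement_eq_one_iff_commute.2 (hc b hb a ha).symm, mul_one, mul_inv_cancel, mul_one]
    obtain ⟨k, w, hw, rfl⟩ := hgen x hx
    rw [show ⁅a, w * e ^ k⁆ = ⁅a, w⁆ * (w * ⁅a, e ^ k⁆ * w⁻¹) by group,
      commutatorElement_eq_one_iff_commute.2 (hE.inf_central h hp3 hn hw (hN a ha)).symm, one_mul]
    have hpow : ⁅a, e ^ k⁆ = f ⟨a, ha⟩ ^ k := by
      rw [hf]
      show a * e ^ k * a⁻¹ * (e ^ k)⁻¹ = (a * e * a⁻¹ * e⁻¹) ^ k
      have hcm : Commute (a * e * a⁻¹) e⁻¹ :=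
        hE.comm _ (Fgs55.conj_mem (hN a ha) he) _ (inv_mem he)
      rw [hcm.mul_zpow, conj_zpow, inv_zpow]
    have hin : ⁅a, e ^ k⁆ ∈ f.range := by rw [hpow]; exact zpow_mem (MonoidHom.mem_range.2 ⟨_, rfl⟩) k
    rw [hfix _ hin w (Subgroup.mem_sup_left hw.1)]
    exact hin
  have hge : f.range ≤ ⁅P X (n - 3), E ⊔ P X j⁆ := by
    rintro _ ⟨a, rfl⟩
    exact Subgroup.commutator_mem_commutator a.2 (Subgroup.mem_sup_left he)
  rw [le_antisymm hle hge]
  exact ⟨by rw [← Subgroup.index_ker, hkidx], hYW⟩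

omit hp in
/-- Bottom of the series, second case. -/
theorem bottom_two [Fact p.Prime] {a b : X} (ha : a ∈ P X 2) (hb : b ∈ P X (n - 3)) (hne : ¬ Commute a b) :
    ⁅P X 2, P X (n - 3)⁆ = P X (n - 1) ∧
      P X (n - 3) ⊓ Subgroup.centralizer (P X 2 : Set X) = P X (n - 2) := by
  have hp' : p.Prime := Fact.out
  constructor
  · have hle : ⁅P X 2, P X (n - 3)⁆ ≤ P X (n - 1) := by
      rw [Subgroup.commutator_le]
      exact fun x hx y hy => P_anti (by omega) (comm_le (by omega) (by omega) hx hy)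
    refine Subgroup.eq_of_le_of_card_ge hle ?_
    have hcd := Subgroup.card_dvd_of_le hle
    rw [h.card_P (by omega) (by omega), show n - (n - 1) = 1 by omega, pow_one] at hcd ⊢
    rcases (Nat.dvd_prime hp').1 hcd with h1 | h1
    · exact absurd (commutatorElement_eq_one_iff_commute.1 (Subgroup.mem_bot.1
        (Subgroup.eq_bot_of_card_eq _ h1 ▸ Subgroup.commutator_mem_commutator ha hb))) hne
    · exact h1.ge
  · refine (Subgroup.eq_of_le_of_card_ge (le_inf (P_anti (by omega)) fun x hx =>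
      Subgroup.mem_centralizer_iff.2 fun g hg => (comm_Z2 h hp3 hn hx hg).symm.eq) ?_).symm
    set C := P X (n - 3) ⊓ Subgroup.centralizer (P X 2 : Set X) with hC
    obtain ⟨i, -, hi⟩ := (Nat.dvd_prime_pow hp').1
      (h.card_P (i := n - 3) (by omega) (by omega) ▸ Subgroup.card_dvd_of_le (inf_le_left : C ≤ _))
    have hlt : Nat.card C < Nat.card (P X (n - 3)) :=
      lt_of_le_of_ne (Subgroup.card_le_of_le inf_le_left) fun hc => hne
        (Subgroup.mem_centralizer_iff.1 ((Subgroup.eq_of_le_of_card_ge inf_le_left hc.ge).ge hb : b ∈ C).2 a ha)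
    rw [hi, h.card_P (by omega) (by omega), Nat.pow_lt_pow_iff_right hp'.one_lt] at hlt
    rw [hi, h.card_P (by omega) (by omega)]
    exact Nat.pow_le_pow_right hp'.pos (by omega)

end Cfsg.Agent.Lib.Soft3
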