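import Cfsg.Agent.Lib.MaxClass.Chain
import Cfsg.Agent.Lib.FusionSystem.Saturation
import Cfsg.Agent.Lib.FusionSystem.Essential
import Cfsg.Agent.Lib.Soft3.Layer

/-!
Maps of a fusion system read inside the base, and extensions along an invariant series.

Owner: helper78.
-/

set_option autoImplicit false
set_option linter.style.haveILetI false
set_option linter.unusedSectionVars false

open scoped commutatorElement

namespace Cfsg.Agent.Lib.Soft3

open Cfsg Cfsg.FusionSystem Cfsg.Agent.Lib Cfsg.Agent.Lib.FS Cfsg.Agent.Lib.MaxClass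

variable {Ω : Type*} [Group Ω] {S : Subgroup Ω} [Finite S] {p : ℕ} [hp : Fact p.Prime] {F : FusionSystem S}

/-- A subgroup of the base as a subgroup of the ambient group. -/
def up (A : Subgroup ↥S) : Subgroup Ω := A.map S.subtype

omit [Finite S] in
theorem up_le (A : Subgroup ↥S) : up A ≤ S := by rintro _ ⟨x, -, rfl⟩; exact x.2

omit [Finite S] in
theorem mem_up {A : Subgroup ↥S} (x : ↥S) : (x : Ω) ∈ up A ↔ x ∈ A :=
  Subgroup.mem_map_iff_mem S.subtype_injective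

omit [Finite S] in
theorem card_up (A : Subgroup ↥S) : Nat.card (up A) = Nat.card A :=
  Subgroup.card_map_of_injective S.subtype_injective

omit [Finite S] in
theorem mem_up' {A : Subgroup ↥S} {x : Ω} (hx : x ∈ up A) : (⟨x, up_le A hx⟩ : ↥S) ∈ A := (mem_up _).1 hx

theorem normalizer_up (A : Subgroup ↥S) :
    up (Subgroup.normalizer (A : Set ↥S)) = normalizerIn S (up A) := by
  ext x
  constructor
  · rintro ⟨g, hg, rfl⟩
    haveI := finite_sub (up_le A)
    refine ⟨g.2, mem_normalizer_of_conj_mem ?_⟩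
    rintro _ ⟨a, ha, rfl⟩
    exact ⟨g * a * g⁻¹, (Subgroup.mem_normalizer_iff.1 hg a).1 ha, rfl⟩
  · rintro ⟨hx, hxn⟩
    refine ⟨⟨x, hx⟩, Fgs55.mem_normalizer_of_forall fun a ha => (mem_up _).1 ?_, rfl⟩
    exact conj_mem_of_normalizer hxn ((mem_up a).2 ha)

/-- A map of the system with source `K`, read in the base. -/
def FMap (F : FusionSystem S) (K : Subgroup ↥S) (ψ : K →* ↥S) : Prop :=
  ∃ φ ∈ F.Hom (up K), ∀ x : K, φ ⟨((x : ↥S) : Ω), (mem_up _).2 x.2⟩ = ((ψ x : ↥S) : Ω)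

/-- The image of a subgroup. -/
def img {K : Subgroup ↥S} (ψ : K →* ↥S) (A : Subgroup ↥S) : Subgroup ↥S := (A.subgroupOf K).map ψ

variable {K : Subgroup ↥S} {ψ : K →* ↥S}

omit [Finite S] in
theorem mem_img {A : Subgroup ↥S} {y : ↥S} : y ∈ img ψ A ↔ ∃ x : K, (x : ↥S) ∈ A ∧ ψ x = y := Iff.rfl

omit [Finite S] in
theorem img_mono {A B : Subgroup ↥S} (hAB : A ≤ B) : img ψ A ≤ img ψ B :=
  Subgroup.map_mono fun _ hx => hAB hx

omit [Finite S] in
theorem img_le_range (A : Subgroup ↥S) : img ψ A ≤ ψ.range := Subgroup.map_le_range _ _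

omit [Finite S] in
theorem img_self : img ψ K = ψ.range := by
  rw [img, Subgroup.subgroupOf_self, MonoidHom.range_eq_map]

theorem FMap.injective (hψ : FMap F K ψ) : Function.Injective ψ := by
  obtain ⟨φ, hφ, he⟩ := hψ
  intro x y hxy
  have := F.injective_of_mem hφ ((he x).trans ((congrArg Subtype.val hxy).trans (he y).symm))
  exact Subtype.ext (Subtype.ext (congrArg (fun z : up K => (z : Ω)) this))

theorem FMap.card_img (hψ : FMap F K ψ) {A : Subgroup ↥S} (hA : A ≤ K) : Nat.card (img ψ A) = Nat.card A := by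
  rw [img, Subgroup.card_map_of_injective hψ.injective,
    Nat.card_congr (Subgroup.subgroupOfEquivOfLe hA).toEquiv]

omit [Finite S] in
theorem FMap.restrict (hψ : FMap F K ψ) {A : Subgroup ↥S} (hA : A ≤ K) :
    FMap F A (ψ.comp (Subgroup.inclusion hA)) := by
  obtain ⟨φ, hφ, he⟩ := hψ
  exact ⟨_, restrict_mem hφ (Subgroup.map_mono hA), fun x => he (Subgroup.inclusion hA x)⟩

omit [Finite S] in
theorem range_restrict_eq {A : Subgroup ↥S} (hA : A ≤ K) :
    (ψ.comp (Subgroup.inclusion hA)).range = img ψ A := by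
  ext y
  constructor
  · rintro ⟨x, rfl⟩; exact ⟨Subgroup.inclusion hA x, x.2, rfl⟩
  · rintro ⟨x, hx, rfl⟩; exact ⟨⟨x, hx⟩, rfl⟩

omit [Finite S] in
theorem img_restrict {A B : Subgroup ↥S} (hA : A ≤ K) (hB : B ≤ A) :
    img (ψ.comp (Subgroup.inclusion hA)) B = img ψ B := by
  ext y
  constructor
  · rintro ⟨x, hx, rfl⟩; exact ⟨Subgroup.inclusion hA x, hx, rfl⟩
  · rintro ⟨x, hx, rfl⟩; exact ⟨⟨x, hB hx⟩, hx, rfl⟩

omit [Finite S] in
theorem FMap.isConj (hψ : FMap F K ψ) : F.IsConj (up K) (up ψ.range) := by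
  obtain ⟨φ, hφ, he⟩ := hψ
  refine ⟨φ, hφ, ?_⟩
  ext y
  constructor
  · rintro ⟨⟨_, ⟨x, hx, rfl⟩⟩, rfl⟩
    exact ⟨ψ ⟨x, hx⟩, ⟨_, rfl⟩, (he ⟨x, hx⟩).symm⟩
  · rintro ⟨_, ⟨x, rfl⟩, rfl⟩
    exact ⟨_, he x⟩

omit [Finite S] in
theorem FMap.isConj_img (hψ : FMap F K ψ) {A : Subgroup ↥S} (hA : A ≤ K) : F.IsConj (up A) (up (img ψ A)) := by
  rw [← range_restrict_eq hA]
  exact (hψ.restrict hA).isConj

theorem img_normalizer {A : Subgroup ↥S} {g : K} (hA : A ≤ K)
    (hg : (g : ↥S) ∈ Subgroup.normalizer (A : Set ↥S)) : ψ g ∈ Subgroup.normalizer (img ψ A : Set ↥S) := by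
  refine Fgs55.mem_normalizer_of_forall ?_
  rintro _ ⟨a, ha, rfl⟩
  refine ⟨g * a * g⁻¹, (show ((g * a * g⁻¹ : K) : ↥S) ∈ A from Fgs55.conj_mem hg ha), by simp [map_mul, map_inv]⟩

omit [Finite S] in
theorem img_commutator {A B : Subgroup ↥S} (hA : A ≤ K) (hB : B ≤ K) :
    img ψ ⁅A, B⁆ = ⁅img ψ A, img ψ B⁆ := by
  rw [img, img, img, ← Subgroup.map_commutator]
  congr 1
  apply Subgroup.map_injective K.subtype_injective
  rw [Subgroup.map_commutator, Subgroup.subgroupOf_map_subtype, Subgroup.subgroupOf_map_subtype,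
    Subgroup.subgroupOf_map_subtype, inf_eq_left.2 hA, inf_eq_left.2 hB, inf_eq_left.2]
  rw [Subgroup.commutator_le]
  exact fun a ha b hb => by
    rw [commutatorElement_def]
    exact mul_mem (mul_mem (mul_mem (hA ha) (hB hb)) (inv_mem (hA ha))) (inv_mem (hB hb))

omit [Finite S] in
theorem img_inf_centralizer_le {A B : Subgroup ↥S} (hB : B ≤ K) :
    img ψ (A ⊓ Subgroup.centralizer (B : Set ↥S)) ≤ img ψ A ⊓ Subgroup.centralizer (img ψ B : Set ↥S) := by
  rintro _ ⟨x, hx, rfl⟩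
  refine ⟨⟨x, hx.1, rfl⟩, Subgroup.mem_centralizer_iff.2 ?_⟩
  rintro _ ⟨b, hb, rfl⟩
  rw [← map_mul, ← map_mul]
  exact congrArg ψ (Subtype.ext (Subgroup.mem_centralizer_iff.1 hx.2 _ hb))

/-- A map of the system with image `K` as an automorphism. -/
theorem FMap.exists_aut (hψ : FMap F K ψ) (hr : ψ.range = K) :
    ∃ α ∈ F.autGroup (up K), ∀ x : K, ((α ⟨((x : ↥S) : Ω), (mem_up _).2 x.2⟩ : up K) : Ω) = ((ψ x : ↥S) : Ω) := by
  obtain ⟨φ, hφ, he⟩ := hψ
  have hr' : φ.range = up K := by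
    ext y
    constructor
    · rintro ⟨⟨_, ⟨x, hx, rfl⟩⟩, rfl⟩
      exact ⟨ψ ⟨x, hx⟩, hr.le ⟨_, rfl⟩, (he ⟨x, hx⟩).symm⟩
    · rintro ⟨z, hz, rfl⟩
      obtain ⟨x, rfl⟩ := hr.ge hz
      exact ⟨_, he x⟩
  exact ⟨_, homEquiv_mem_autGroup hφ hr', he⟩

theorem exists_FMap_of_aut {α : MulAut (up K)} (hα : α ∈ F.autGroup (up K)) :
    ∃ ψ : K →* ↥S, FMap F K ψ ∧ ψ.range = K ∧
      ∀ x : K, ((α ⟨((x : ↥S) : Ω), (mem_up _).2 x.2⟩ : up K) : Ω) = ((ψ x : ↥S) : Ω) := by
  obtain ⟨φ, hφ, -, hφe⟩ := exists_hom_of_aut (up_le K) hα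
  let e : K ≃* up K := K.equivMapOfInjective S.subtype S.subtype_injective
  let ψ : K →* ↥S := (Subgroup.inclusion (up_le K)).comp (α.toMonoidHom.comp e.toMonoidHom)
  refine ⟨ψ, ⟨φ, hφ, fun x => hφe _⟩, ?_, fun x => rfl⟩
  ext y
  constructor
  · rintro ⟨x, rfl⟩
    exact mem_up' (α (e x)).2
  · intro hy
    refine ⟨e.symm (α.symm ⟨y, (mem_up y).2 hy⟩), Subtype.ext ?_⟩
    show ((α (e (e.symm (α.symm ⟨y, (mem_up y).2 hy⟩))) : up K) : Ω) = _
    rw [MulEquiv.apply_symm_apply, MulEquiv.apply_symm_apply]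

section extend

variable {Q : Subgroup Ω}

/-- An automorphism normalising the induced automorphisms extends to the normalizer. -/
theorem extend_of_normalizing (hS : IsPGroup p S) (hF : F.IsSaturated p) (hn : F.IsFullyNormalized Q)
    {α : MulAut Q} (hα : α ∈ F.autGroup Q)
    (hnorm : ∀ u ∈ autInducedBy S Q, α * u * α⁻¹ ∈ autInducedBy S Q) :
    ∃ θ ∈ F.Hom (normalizerIn S Q), (∀ g, θ g ∈ normalizerIn S Q) ∧
      ∀ (x : Q) (hx : (x : Ω) ∈ normalizerIn S Q), θ ⟨x, hx⟩ = α x := by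
  obtain ⟨φ, hφ, hr, hφe⟩ := exists_hom_of_aut hn.1 hα
  have hle : normalizerIn S Q ≤ extender S Q φ := fun g hg => by
    obtain ⟨h, hh, he⟩ := mem_autInducedBy.1 (hnorm (Q.normalizerMonoidHom ⟨g, hg.2⟩)
      (mem_autInducedBy.2 ⟨g, hg.1, fun _ => rfl⟩))
    refine mem_extender_of hg hh fun x hx => ?_
    rw [hφe, hφe, ← he (α x)]
    congr 1
    simp only [MulAut.mul_apply, MulAut.inv_apply_self]
    rfl
  obtain ⟨θ₀, hθ₀, he₀⟩ := (receptive_of_fullyNormalized hS hF hn).2 Q φ hφ hr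
  obtain ⟨θ, hθ, heθ⟩ := exists_restrict hθ₀ hle
  have hQN : Q ≤ normalizerIn S Q := le_normalizerIn hn.1
  have hext : ∀ (x : Q) (hx : (x : Ω) ∈ normalizerIn S Q), θ ⟨x, hx⟩ = α x := fun x hx => by
    rw [heθ, he₀ x x.2, hφe]
  have hmap : (Q.subgroupOf (normalizerIn S Q)).map θ = Q := by
    rw [map_subgroupOf_eq_range hQN]
    ext y
    constructor
    · rintro ⟨x, rfl⟩
      show θ ⟨x, hQN x.2⟩ ∈ Q
      rw [hext]; exact (α x).2
    · intro hy
      refine ⟨α.symm ⟨y, hy⟩, ?_⟩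
      show θ ⟨_, _⟩ = y
      rw [hext, MulEquiv.apply_symm_apply]
  exact ⟨θ, hθ, fun g => apply_mem_normalizerIn hθ hQN hmap g g.2.2, hext⟩

/-- Along an invariant series with steps of order `p` every automorphism normalises the induced ones. -/
theorem normalizing_of_series (hS : IsPGroup p S) (hF : F.IsSaturated p) (hn : F.IsFullyNormalized Q)
    (L : ℕ → Subgroup Q) {m : ℕ} (h0 : L 0 = ⊤) (hm : L m = ⊥)
    (hinv : ∀ γ ∈ F.autGroup Q, ∀ k, ∀ x ∈ L k, γ x ∈ L k)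
    (hstep : ∀ k < m, L (k + 1) ≤ L k ∧ Nat.card (L k) = p * Nat.card (L (k + 1)))
    {α : MulAut Q} (hα : α ∈ F.autGroup Q) :
    ∀ u ∈ autInducedBy S Q, α * u * α⁻¹ ∈ autInducedBy S Q := by
  classical
  have hQS := hn.1
  haveI := finite_sub hQS
  haveI : Finite (MulAut Q) := Finite.of_injective (fun f => (f : Q → Q)) DFunLike.coe_injective
  have hQp := isPGroup_of_le hS hQS
  have hnorm : ∀ k, (L k).Normal := fun k => ⟨fun x hx c => by
    have := hinv (MulAut.conj c) (inn_le_autGroup F hQS ⟨c, rfl⟩) k x hx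
    simpa using this⟩
  let K₀ : Subgroup (F.autGroup Q) :=
    { carrier := {γ | ∀ k < m, ∀ x ∈ L k, x⁻¹ * (γ : MulAut Q) x ∈ L (k + 1)}
      one_mem' := fun k _ x _ => by simp
      mul_mem' := fun {a b} ha hb k hk x hx => by
        have e : x⁻¹ * ((a : MulAut Q) * (b : MulAut Q)) x =
            (x⁻¹ * (b : MulAut Q) x) * (((b : MulAut Q) x)⁻¹ * (a : MulAut Q) ((b : MulAut Q) x)) := by
          rw [MulAut.mul_apply]; group
        rw [Subgroup.coe_mul, e]
        exact mul_mem (hb k hk x hx) (ha k hk _ (hinv _ b.2 k x hx))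
      inv_mem' := fun {a} ha k hk x hx => by
        have e : x⁻¹ * ((a : MulAut Q)⁻¹) x =
            (((a : MulAut Q)⁻¹ x)⁻¹ * (a : MulAut Q) ((a : MulAut Q)⁻¹ x))⁻¹ := by
          rw [MulAut.apply_inv_self]; group
        rw [Subgroup.coe_inv, e]
        exact inv_mem (ha k hk _ (hinv _ (inv_mem a.2) k x hx)) }
  have hKn : K₀.Normal := ⟨fun a ha γ k hk x hx => by
    set y := (γ : MulAut Q)⁻¹ x with hy
    have e : x⁻¹ * ((γ * a * γ⁻¹ : F.autGroup Q) : MulAut Q) x =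
        (γ : MulAut Q) (y⁻¹ * (a : MulAut Q) y) := by
      rw [map_mul, map_inv, hy, MulAut.apply_inv_self]
      simp [MulAut.mul_apply]
    rw [e]
    exact hinv _ γ.2 _ _ (ha k hk y (hinv _ (inv_mem γ.2) k x hx))⟩
  have hKp : IsPGroup p K₀ := by
    refine FusionEssential.PClosed.isPGroup_of_coprime_trivial K₀ fun a ha hco => ?_
    refine Subtype.ext (MulEquiv.ext fun x => ?_)
    refine FusionEssential.SmallOrder.fixed_of_series hQp (a : MulAut Q) (by rwa [Subgroup.orderOf_coe])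
      (fun i => if i < m then L i else ⊥) (n := m) (if_neg (lt_irrefl m)) (fun i z hz => ?_) x ?_
    · split_ifs at hz with hi
      · split_ifs with hi'
        · exact ha i hi z hz
        · have := ha i hi z hz
          rwa [show i + 1 = m by omega, hm] at this
      · rw [Subgroup.mem_bot.1 hz]
        simp
    · show x ∈ (if 0 < m then L 0 else ⊥)
      split_ifs with h
      · rw [h0]; exact Subgroup.mem_top x
      · rw [← hm, show m = 0 by omega, h0]; exact Subgroup.mem_top x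
  obtain ⟨R, hR⟩ := (fullyAutomized_of_fullyNormalized hS hF hn).2
  have hKR : K₀ ≤ (autInducedBy S Q).subgroupOf (F.autGroup Q) := by
    rw [← hR]
    exact le_trans (le_sSup ⟨hKn, hKp⟩ : K₀ ≤ pCore p (F.autGroup Q)) (Cores.pCore_le_sylow R)
  intro u hu
  obtain ⟨g, hg⟩ : ∃ g, Resistant67.conjN F hQS g = ⟨u, autInducedBy_le_autGroup F hQS hu⟩ := by
    have : (⟨u, autInducedBy_le_autGroup F hQS hu⟩ : F.autGroup Q) ∈ (Resistant67.conjN F hQS).range := by
      rw [Resistant67.conjN_range, Subgroup.mem_subgroupOf]; exact hu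
    exact this
  have huK : (⟨u, autInducedBy_le_autGroup F hQS hu⟩ : F.autGroup Q) ∈ K₀ := by
    rw [← hg]
    intro k hk x hx
    obtain ⟨hle, hc⟩ := hstep k hk
    obtain ⟨w, hw, hw'⟩ : ∃ w ∈ L k, w ∉ L (k + 1) := SetLike.exists_of_lt (lt_of_le_of_ne hle fun he => by
      rw [he] at hc
      have := hp.out.two_le
      have hpos : 0 < Nat.card (L k) := Nat.card_pos
      nlinarith)
    haveI := hnorm (k + 1)
    have hwp : w ^ p ∈ L (k + 1) := by
      have hidx : ((L (k + 1)).subgroupOf (L k)).index = p := by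
        have h1 := ((L (k + 1)).subgroupOf (L k)).card_mul_index
        rw [Nat.card_congr (Subgroup.subgroupOfEquivOfLe hle).toEquiv, hc, Nat.mul_comm p] at h1
        exact Nat.eq_of_mul_eq_mul_left Nat.card_pos h1
      have := Subgroup.pow_index_mem ((L (k + 1)).subgroupOf (L k)) ⟨w, hw⟩
      rwa [hidx] at this
    have hLw : L k = Subgroup.zpowers w ⊔ L (k + 1) := by
      have hsup : Subgroup.zpowers w ⊔ L (k + 1) ≤ L k := sup_le ((Subgroup.zpowers_le).2 hw) hle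
      refine (Subgroup.eq_of_le_of_card_ge hsup ?_).symm
      obtain ⟨q, hq⟩ := Subgroup.card_dvd_of_le (le_sup_right : L (k + 1) ≤ Subgroup.zpowers w ⊔ L (k + 1))
      have h1 := Subgroup.card_dvd_of_le hsup
      rw [hq, hc, Nat.mul_comm p] at h1
      rcases (Nat.dvd_prime hp.out).1 ((Nat.mul_dvd_mul_iff_left Nat.card_pos).1 h1) with rfl | rfl
      · rw [mul_one] at hq
        exact absurd (Subgroup.eq_of_le_of_card_ge (le_sup_right : L (k + 1) ≤ _) hq.le ▸
          Subgroup.mem_sup_left (Subgroup.mem_zpowers w)) hw'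
      · rw [hc, hq, Nat.mul_comm]
    exact Resistant67.step_trivial (Resistant67.conjN_pow_eq_one hS hQS g) (L (k + 1))
      (fun z hz => hinv _ (Resistant67.conjN F hQS g).2 _ z hz) hwp
      (hLw ▸ hinv _ (Resistant67.conjN F hQS g).2 k w hw) x (hLw ▸ hx)
  exact Subgroup.mem_subgroupOf.1 (hKR (hKn.conj_mem _ huK ⟨α, hα⟩))

/-- The base form of an extension to the normalizer. -/
theorem exists_extension {K : Subgroup ↥S} (hS : IsPGroup p S) (hF : F.IsSaturated p)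
    (hn : F.IsFullyNormalized (up K)) {α : MulAut (up K)} (hα : α ∈ F.autGroup (up K))
    (hnorm : ∀ u ∈ autInducedBy S (up K), α * u * α⁻¹ ∈ autInducedBy S (up K)) :
    ∃ ψ : ↥(Subgroup.normalizer (K : Set ↥S)) →* ↥S, FMap F _ ψ ∧
      ψ.range = Subgroup.normalizer (K : Set ↥S) ∧
      ∀ x : K, ((α ⟨((x : ↥S) : Ω), (mem_up _).2 x.2⟩ : up K) : Ω) = ((ψ ⟨x, Subgroup.le_normalizer x.2⟩ : ↥S) : Ω) := by
  obtain ⟨θ, hθ, hθN, hθe⟩ := extend_of_normalizing hS hF hn hα hnorm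
  have hle : up (Subgroup.normalizer (K : Set ↥S)) ≤ normalizerIn S (up K) := (normalizer_up K).le
  obtain ⟨θ', hθ', he'⟩ := exists_restrict hθ hle
  let N := Subgroup.normalizer (K : Set ↥S)
  let ψ : N →* ↥S := (θ'.comp (N.equivMapOfInjective S.subtype S.subtype_injective).toMonoidHom).codRestrict S
    fun x => apply_mem hθ' _
  have hval : ∀ x : N, ((ψ x : ↥S) : Ω) = θ ⟨((x : ↥S) : Ω), hle ((mem_up _).2 x.2)⟩ := fun x => he' _
  have hψ : FMap F N ψ := ⟨θ', hθ', fun x => rfl⟩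
  refine ⟨ψ, hψ, ?_, fun x => ?_⟩
  · refine Subgroup.eq_of_le_of_card_ge ?_ ?_
    · rintro _ ⟨x, rfl⟩
      refine (mem_up _).1 ?_
      rw [hval]
      exact (normalizer_up K).ge (hθN _)
    · rw [← img_self, hψ.card_img le_rfl]
  · rw [hval, hθe ⟨((x : ↥S) : Ω), (mem_up _).2 x.2⟩]

end extend

end Cfsg.Agent.Lib.Soft3
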