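import Cfsg.Agent.Lib.MaxClass.Uniform
import Cfsg.Agent.Lib.MaxClass.Degree
import Cfsg.Agent.Lib.Fgs55.Soft

/-!
Soft subgroups of order `p ^ 3` in a group of maximal class.

Owner: helper78.
-/

set_option autoImplicit false
set_option linter.style.haveILetI false
set_option linter.unusedSectionVars false

open scoped commutatorElement

namespace Cfsg.Agent.Lib.Soft3

open Cfsg.Agent.Lib Cfsg.Agent.Lib.MaxClass

universe u

variable {p n : ℕ} [hp : Fact p.Prime] {X : Type u} [Group X] [Finite X]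

/-- An abelian, self-centralising subgroup of order `p ^ 3`. -/
structure Base (p : ℕ) (E : Subgroup X) : Prop where
  comm : ∀ a ∈ E, ∀ b ∈ E, a * b = b * a
  self : Subgroup.centralizer (E : Set X) ≤ E
  card : Nat.card E = p ^ 3

/-- Moreover of index `p` in its normalizer. -/
structure S3 (p : ℕ) (E : Subgroup X) : Prop extends Base p E where
  rel : E.relIndex (Subgroup.normalizer (E : Set X)) = p

theorem card_sup_P {E : Subgroup X} (j : ℕ) :
    Nat.card (E ⊔ P X j : Subgroup X) * Nat.card (E ⊓ P X j : Subgroup X) = Nat.card E * Nat.card (P X j) := by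
  have h1 := ((P X j).subgroupOf (E ⊔ P X j)).card_mul_index
  rw [Nat.card_congr (Subgroup.subgroupOfEquivOfLe (le_sup_right : P X j ≤ _)).toEquiv] at h1
  have h2 := ((P X j).subgroupOf E).card_mul_index
  rw [← Nat.card_congr ((P X j).subgroupOf E |>.equivMapOfInjective E.subtype E.subtype_injective).toEquiv.symm,
    Subgroup.subgroupOf_map_subtype, inf_comm] at h2
  change _ * (P X j).relIndex (E ⊔ P X j) = _ at h1
  change _ * (P X j).relIndex E = _ at h2
  rw [Subgroup.relIndex_sup_right] at h1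
  rw [← h1, ← h2]
  ring

/-- Normality over a smaller subgroup: `g` normalises `E ⊔ P j` if it moves `E` inside `P j`-cosets. -/
theorem mem_normalizer_sup {E : Subgroup X} {j : ℕ} {g : X} (hg : ∀ e ∈ E, ⁅g, e⁆ ∈ E ⊔ P X j) :
    g ∈ Subgroup.normalizer ((E ⊔ P X j : Subgroup X) : Set X) := by
  refine Fgs55.mem_normalizer_of_forall fun a ha => ?_
  suffices hs : (E ⊔ P X j : Subgroup X) ≤ (E ⊔ P X j).comap (MulAut.conj g).toMonoidHom by
    exact hs ha
  refine sup_le (fun e he => ?_) fun a ha => ?_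
  · show g * e * g⁻¹ ∈ (E ⊔ P X j : Subgroup X)
    rw [show g * e * g⁻¹ = ⁅g, e⁆ * e by group]
    exact mul_mem (hg e he) (Subgroup.mem_sup_left he)
  · exact Subgroup.mem_sup_right ((P_normal j).conj_mem a ha g)

section

variable {E : Subgroup X} (h : MC p n X) (hp3 : 3 ≤ p) (hn : 5 ≤ n)
include h hp3 hn

theorem exists_notMem_le_M {i : ℕ} (hi : 1 ≤ i) (him : i ≤ n - 3) {g : X} (hg : g ∈ P X 1) : g ∈ M X i :=
  h.P_one_le_M (h.deg_sub_two hp3) hi (by omega) hg

theorem comm_P_one {i : ℕ} (hi : 1 ≤ i) (him : i ≤ n - 3) {a g : X} (ha : a ∈ P X i) (hg : g ∈ P X 1) :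
    ⁅a, g⁆ ∈ P X (i + 2) :=
  mem_M.1 (exists_notMem_le_M h hp3 hn hi him hg) a ha

theorem comm_Z2 {a g : X} (ha : a ∈ P X (n - 2)) (hg : g ∈ P X 2) : Commute a g :=
  commutatorElement_eq_one_iff_commute.1 (h.eq_one (by omega) (comm_le (by omega) (by omega) ha hg))

theorem comm_last {a g : X} (ha : a ∈ P X (n - 1)) : Commute a g := h.last_central ha g

/-- `P (n - 3)` is abelian. -/
theorem comm_three {a b : X} (ha : a ∈ P X (n - 3)) (hb : b ∈ P X (n - 3)) : Commute a b := by
  obtain ⟨t, ht, ht'⟩ := h.exists_notMem_succ (i := n - 3) (by omega) (by omega)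
  obtain ⟨i, r, hr, rfl⟩ := h.exists_coord (by omega) (by omega) ht ht' ha
  obtain ⟨k, s, hs, rfl⟩ := h.exists_coord (by omega) (by omega) ht ht' hb
  have key : ∀ r ∈ P X (n - 3 + 1), ∀ g ∈ P X (n - 3), Commute r g := fun r hr g hg =>
    comm_Z2 h hp3 hn (P_anti (by omega) hr) (P_anti (by omega) hg)
  refine Commute.mul_left (key r hr _ hb) (Commute.mul_right ?_ ((Commute.refl t).zpow_zpow i k))
  exact (key s hs _ (zpow_mem ht i)).symm

omit hp3 hn in
theorem Base.last_le (hE : Base p E) : P X (n - 1) ≤ E := fun a ha =>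
  hE.self (Subgroup.mem_centralizer_iff.2 fun e _ => (h.last_central ha e).symm.eq)

/-- If `E` lies in `P 2`, its normalizer has order at least `p ^ 5`. -/
theorem Base.big_of_le_two (hE : Base p E) (hle : E ≤ P X 2) :
    p ^ 5 ≤ Nat.card (Subgroup.normalizer (E : Set X)) := by
  have hZ2 : P X (n - 2) ≤ E := fun a ha =>
    hE.self (Subgroup.mem_centralizer_iff.2 fun e he => (comm_Z2 h hp3 hn ha (hle he)).symm.eq)
  by_cases hc : E ≤ P X (n - 3)
  · have heq : E = P X (n - 3) := Subgroup.eq_of_le_of_card_ge hc (by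
      rw [hE.card, h.card_P (by omega) (by omega), show n - (n - 3) = 3 by omega])
    have htop : Subgroup.normalizer (E : Set X) = ⊤ := by
      rw [heq]; exact Subgroup.normalizer_eq_top_iff.2 (P_normal _)
    rw [htop, Subgroup.card_top, h.card]
    exact Nat.pow_le_pow_right hp.out.pos hn
  -- the normalizer contains `E` and a series term `P j` with `p ^ 5` elements above `E`
  have hn6 : 6 ≤ n := by
    by_contra hlt
    exact hc (hle.trans (P_anti (by omega)))
  by_cases hc4 : E ≤ P X (n - 4)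
  · have hN : P X (n - 5) ≤ Subgroup.normalizer (E : Set X) := fun g hg => Fgs55.mem_normalizer_of_forall fun e he => by
      rw [show g * e * g⁻¹ = ⁅g, e⁆ * e by group]
      refine mul_mem (hZ2 ?_) he
      rw [← commutatorElement_inv]
      refine inv_mem ?_
      rcases Nat.lt_or_ge n 7 with h7 | h7
      · have := comm_P_one h hp3 hn (i := 2) (by omega) (by omega) (hle he)
          (P_anti (by omega) hg)
        exact P_anti (by omega) this
      · exact P_anti (by omega) (comm_le (by omega) (by omega) (hc4 he) hg)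
    have := Subgroup.card_le_of_le hN
    rwa [h.card_P (by omega) (by omega), show n - (n - 5) = 5 by omega] at this
  · have hn7 : 7 ≤ n := by
      by_contra hlt
      exact hc4 (hle.trans (P_anti (by omega)))
    have hN : E ⊔ P X (n - 4) ≤ Subgroup.normalizer (E : Set X) :=
      sup_le Subgroup.le_normalizer fun g hg => Fgs55.mem_normalizer_of_forall fun e he => by
        rw [show g * e * g⁻¹ = ⁅g, e⁆ * e by group]
        exact mul_mem (hZ2 (P_anti (by omega) (comm_le (by omega) (by omega) hg (hle he)))) he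
    refine le_trans ?_ (Subgroup.card_le_of_le hN)
    have hlt : Nat.card (P X (n - 4)) < Nat.card (E ⊔ P X (n - 4) : Subgroup X) :=
      lt_of_le_of_ne (Subgroup.card_le_of_le le_sup_right) fun he =>
        hc4 (le_sup_left.trans (Subgroup.eq_of_le_of_card_ge le_sup_right he.ge).ge)
    obtain ⟨i, hi⟩ := IsPGroup.iff_card.1 (h.isPGroup.to_subgroup (E ⊔ P X (n - 4)))
    rw [hi, h.card_P (by omega) (by omega), Nat.pow_lt_pow_iff_right hp.out.one_lt] at hlt
    rw [hi]
    exact Nat.pow_le_pow_right hp.out.pos (by omega)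

omit h hp3 hn in
theorem S3.card_normalizer (hE : S3 p E) : Nat.card (Subgroup.normalizer (E : Set X)) = p ^ 4 := by
  have h1 := (E.subgroupOf (Subgroup.normalizer (E : Set X))).card_mul_index
  rw [Nat.card_congr (Subgroup.subgroupOfEquivOfLe Subgroup.le_normalizer).toEquiv, hE.card] at h1
  change p ^ 3 * E.relIndex _ = _ at h1
  rw [← h1, hE.rel, ← pow_succ]

theorem S3.not_le_two (hE : S3 p E) : ¬ E ≤ P X 2 := fun hle => by
  have := hE.toBase.big_of_le_two h hp3 hn hle
  rw [hE.card_normalizer, Nat.pow_le_pow_iff_right hp.out.one_lt] at this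
  omega

theorem S3.soft (hE : S3 p E) : Fgs55.Soft p E :=
  ⟨hE.comm, hE.self, hE.rel, by
    have h1 := E.card_mul_index
    rw [hE.card, h.card, show p ^ n = p ^ 3 * p ^ (n - 3) by rw [← pow_add]; congr 1; omega] at h1
    rw [Nat.eq_of_mul_eq_mul_left (pow_pos hp.out.pos 3) h1]
    exact Nat.pow_le_pow_right hp.out.pos (by omega)⟩

theorem Base.side (hE : Base p E) : E ≤ P X 1 ∨ E ≤ M X (n - 2) := by
  by_contra hne
  push Not at hne
  obtain ⟨⟨a, ha, ha1⟩, b, hb, hb2⟩ := And.intro (SetLike.not_le_iff_exists.1 hne.1) (SetLike.not_le_iff_exists.1 hne.2)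
  obtain ⟨y, hy, hy1, hy2⟩ : ∃ y ∈ E, y ∉ P X 1 ∧ y ∉ M X (n - 2) := by
    by_cases h1 : a ∈ M X (n - 2)
    · by_cases h2 : b ∈ P X 1
      · exact ⟨a * b, mul_mem ha hb, fun hc => ha1 (by simpa using mul_mem hc (inv_mem h2)),
          fun hc => hb2 (by simpa using mul_mem (inv_mem h1) hc)⟩
      · exact ⟨b, hb, h2, hb2⟩
    · exact ⟨a, ha, ha1, h1⟩
  have hu : Uniform n y := h.uniform_of hy1 fun i h2 hin => by
    rcases (by omega : i + 1 ≤ n - 2 ∨ i = n - 2) with hi | rfl
    exacts [h.notMem_M (h.deg_sub_two hp3) (by omega) hi hin hy1, hy2]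
  have hle : E ≤ Subgroup.centralizer ({y} : Set X) := fun e he =>
    Subgroup.mem_centralizer_singleton_iff.2 (hE.comm e he y hy)
  have := (Subgroup.card_le_of_le hle).trans (MC.Uniform.card_centralizer_le h hu)
  rw [hE.card, Nat.pow_le_pow_iff_right hp.out.one_lt] at this
  omega

theorem Base.Z2_le_of_M (hE : Base p E) (hM : E ≤ M X (n - 2)) : P X (n - 2) ≤ E := fun a ha =>
  hE.self (Subgroup.mem_centralizer_iff.2 fun e he =>
    (commutatorElement_eq_one_iff_commute.1 (h.eq_one (by omega) (mem_M.1 (hM he) a ha))).symm.eq)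

/-- `P (n - 3)` normalises `E`. -/
theorem Base.three_le_normalizer (hE : Base p E) :
    P X (n - 3) ≤ Subgroup.normalizer (E : Set X) := fun g hg => Fgs55.mem_normalizer_of_forall fun e he => by
  rw [show g * e * g⁻¹ = ⁅g, e⁆ * e by group]
  refine mul_mem ?_ he
  rcases hE.side h hp3 hn with h1 | h1
  · exact hE.last_le h (P_anti (by omega) (comm_P_one h hp3 hn (by omega) le_rfl hg (h1 he)))
  · exact hE.Z2_le_of_M h hp3 hn h1 (P_anti (by omega) (comm_mem (by omega) hg e))

theorem S3.normalizer_eq (hE : S3 p E) : Subgroup.normalizer (E : Set X) = E ⊔ P X (n - 3) := by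
  have hle : E ⊔ P X (n - 3) ≤ Subgroup.normalizer (E : Set X) :=
    sup_le Subgroup.le_normalizer (hE.toBase.three_le_normalizer h hp3 hn)
  refine ((Fgs55.eq_or_eq_of_relIndex_prime hp.out le_sup_left hle hE.rel).resolve_left fun he => ?_).symm
  have : P X (n - 3) = E := Subgroup.eq_of_le_of_card_ge (le_sup_right.trans he.le) (by
    rw [hE.card, h.card_P (by omega) (by omega), show n - (n - 3) = 3 by omega])
  exact hE.not_le_two h hp3 hn (this.ge.trans (P_anti (by omega)))

theorem S3.normalizer_inf_two (hE : S3 p E) :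
    Subgroup.normalizer (E : Set X) ⊓ P X 2 = P X (n - 3) := by
  refine (Subgroup.eq_of_le_of_card_ge (le_inf (hE.toBase.three_le_normalizer h hp3 hn) (P_anti (by omega))) ?_).symm
  obtain ⟨i, -, hi⟩ := (Nat.dvd_prime_pow hp.out).1
    (hE.card_normalizer ▸ Subgroup.card_dvd_of_le (inf_le_left : Subgroup.normalizer (E : Set X) ⊓ P X 2 ≤ _))
  have hlt : Nat.card (Subgroup.normalizer (E : Set X) ⊓ P X 2 : Subgroup X) < p ^ 4 := by
    rw [← hE.card_normalizer]
    refine lt_of_le_of_ne (Subgroup.card_le_of_le inf_le_left) fun he => hE.not_le_two h hp3 hn ?_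
    exact Subgroup.le_normalizer.trans ((Subgroup.eq_of_le_of_card_ge inf_le_left he.ge).ge.trans inf_le_right)
  rw [hi, Nat.pow_lt_pow_iff_right hp.out.one_lt] at hlt
  rw [hi, h.card_P (by omega) (by omega)]
  exact Nat.pow_le_pow_right hp.out.pos (by omega)

theorem S3.inf_two_le (hE : S3 p E) : E ⊓ P X 2 ≤ P X (n - 3) :=
  (inf_le_inf_right _ Subgroup.le_normalizer).trans (hE.normalizer_inf_two h hp3 hn).le

theorem S3.inf_eq (hE : S3 p E) {j : ℕ} (hj : 2 ≤ j) (hjn : j ≤ n - 3) : E ⊓ P X j = E ⊓ P X 2 :=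
  le_antisymm (inf_le_inf_left _ (P_anti hj))
    (le_inf inf_le_left ((hE.inf_two_le h hp3 hn).trans (P_anti hjn)))

theorem S3.card_inf (hE : S3 p E) : Nat.card (E ⊓ P X 2 : Subgroup X) = p ^ 2 := by
  have h1 := card_sup_P (E := E) (X := X) (n - 3)
  rw [← hE.normalizer_eq h hp3 hn, hE.card_normalizer, hE.card, h.card_P (by omega) (by omega),
    show n - (n - 3) = 3 by omega, hE.inf_eq h hp3 hn (by omega) le_rfl] at h1
  refine Nat.eq_of_mul_eq_mul_left (pow_pos hp.out.pos 4) (h1.trans ?_)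
  ring

theorem S3.card_sup (hE : S3 p E) {j : ℕ} (hj : 2 ≤ j) (hjn : j ≤ n - 3) :
    Nat.card (E ⊔ P X j : Subgroup X) = p ^ (n - j + 1) := by
  have h1 := card_sup_P (E := E) (X := X) j
  rw [hE.card, hE.inf_eq h hp3 hn hj hjn, hE.card_inf h hp3 hn, h.card_P (by omega) (by omega)] at h1
  refine Nat.eq_of_mul_eq_mul_right (pow_pos hp.out.pos 2) (h1.trans ?_)
  rw [pow_succ]; ring

theorem S3.sup_inf_two (hE : S3 p E) {j : ℕ} (hj : 2 ≤ j) (hjn : j ≤ n - 3) :
    (E ⊔ P X j) ⊓ P X 2 = P X j := by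
  refine (Subgroup.eq_of_le_of_card_ge (le_inf le_sup_right (P_anti hj)) ?_).symm
  obtain ⟨i, -, hi⟩ := (Nat.dvd_prime_pow hp.out).1
    (hE.card_sup h hp3 hn hj hjn ▸ Subgroup.card_dvd_of_le (inf_le_left : (E ⊔ P X j) ⊓ P X 2 ≤ E ⊔ P X j))
  have hlt : Nat.card ((E ⊔ P X j) ⊓ P X 2 : Subgroup X) < p ^ (n - j + 1) := by
    rw [← hE.card_sup h hp3 hn hj hjn]
    refine lt_of_le_of_ne (Subgroup.card_le_of_le inf_le_left) fun he => hE.not_le_two h hp3 hn ?_
    exact le_sup_left.trans ((Subgroup.eq_of_le_of_card_ge inf_le_left he.ge).ge.trans inf_le_right)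
  rw [hi, Nat.pow_lt_pow_iff_right hp.out.one_lt] at hlt
  rw [hi, h.card_P (by omega) (by omega)]
  exact Nat.pow_le_pow_right hp.out.pos (by omega)

/-- The tower above `E`. -/
theorem S3.normalizer_sup (hE : S3 p E) {j : ℕ} (hj : 3 ≤ j) (hjn : j ≤ n - 3) :
    Subgroup.normalizer ((E ⊔ P X j : Subgroup X) : Set X) = E ⊔ P X (j - 1) := by
  have hle : E ⊔ P X (j - 1) ≤ Subgroup.normalizer ((E ⊔ P X j : Subgroup X) : Set X) :=
    sup_le (le_sup_left.trans Subgroup.le_normalizer) fun g hg => mem_normalizer_sup fun e _ =>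
      Subgroup.mem_sup_right (by
        have := comm_mem (i := j - 1) (by omega) hg e
        rwa [show j - 1 + 1 = j by omega] at this)
  have hne : E ⊔ P X j ≠ ⊤ := fun he => by
    have := hE.card_sup h hp3 hn (j := j) (by omega) hjn
    rw [he, Subgroup.card_top, h.card] at this
    have := Nat.pow_right_injective hp.out.two_le this
    omega
  have hT := Fgs55.tower (Nat.card X) X le_rfl h.isPGroup E (hE.soft h hp3 hn)
  refine ((Fgs55.eq_or_eq_of_relIndex_prime hp.out (sup_le_sup_left (P_anti (by omega)) E) hle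
    (hT.step _ le_sup_left hne)).resolve_left fun he => ?_).symm
  have := hE.card_sup h hp3 hn (j := j) (by omega) hjn
  rw [← he, hE.card_sup h hp3 hn (j := j - 1) (by omega) (by omega)] at this
  have := Nat.pow_right_injective hp.out.two_le this
  omega

theorem S3.normalizer_sup_two (hE : S3 p E) :
    Subgroup.normalizer ((E ⊔ P X 2 : Subgroup X) : Set X) = ⊤ :=
  eq_top_iff.2 fun g _ => mem_normalizer_sup fun e _ => Subgroup.mem_sup_right (comm_mem_top g e)

/-- `W = E ∩ P 2` is central in `N(E)`. -/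
theorem S3.inf_central (hE : S3 p E) {w g : X} (hw : w ∈ E ⊓ P X 2)
    (hg : g ∈ Subgroup.normalizer (E : Set X)) : Commute w g := by
  have hle : Subgroup.normalizer (E : Set X) ≤ Subgroup.centralizer ({w} : Set X) := by
    rw [hE.normalizer_eq h hp3 hn, sup_le_iff]
    refine ⟨fun e he => Subgroup.mem_centralizer_singleton_iff.2 (hE.comm e he w hw.1), fun a ha =>
      Subgroup.mem_centralizer_singleton_iff.2 (comm_three h hp3 hn ha (hE.inf_two_le h hp3 hn hw)).eq⟩
  exact (Subgroup.mem_centralizer_singleton_iff.1 (hle hg)).symm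

/-- `W` is the centre of `N(E)`. -/
theorem S3.inf_eq_center (hE : S3 p E) :
    Subgroup.normalizer (E : Set X) ⊓ Subgroup.centralizer ((Subgroup.normalizer (E : Set X) : Subgroup X) : Set X) =
      E ⊓ P X 2 := by
  have hle : E ⊓ P X 2 ≤ Subgroup.normalizer (E : Set X) ⊓
      Subgroup.centralizer ((Subgroup.normalizer (E : Set X) : Subgroup X) : Set X) := fun w hw =>
    ⟨Subgroup.le_normalizer hw.1, Subgroup.mem_centralizer_iff.2 fun g hg => (hE.inf_central h hp3 hn hw hg).symm.eq⟩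
  set C := Subgroup.normalizer (E : Set X) ⊓
      Subgroup.centralizer ((Subgroup.normalizer (E : Set X) : Subgroup X) : Set X) with hC
  refine (Subgroup.eq_of_le_of_card_ge hle ?_).symm
  have hCE : C ≤ E := fun c hc => hE.self (Subgroup.mem_centralizer_iff.2 fun e he =>
    Subgroup.mem_centralizer_iff.1 hc.2 e (Subgroup.le_normalizer he))
  obtain ⟨i, -, hi⟩ := (Nat.dvd_prime_pow hp.out).1 (hE.card ▸ Subgroup.card_dvd_of_le hCE)
  have hlt : Nat.card C < p ^ 3 := by
    rw [← hE.card]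
    refine lt_of_le_of_ne (Subgroup.card_le_of_le hCE) fun he => ?_
    have hN : Subgroup.normalizer (E : Set X) ≤ E := fun g hg => hE.self (Subgroup.mem_centralizer_iff.2 fun e he' =>
      (Subgroup.mem_centralizer_iff.1 ((Subgroup.eq_of_le_of_card_ge hCE he.ge).ge he' : e ∈ C).2 g hg).symm)
    have := Subgroup.card_le_of_le hN
    rw [hE.card, hE.card_normalizer, Nat.pow_le_pow_iff_right hp.out.one_lt] at this
    omega
  rw [hi, Nat.pow_lt_pow_iff_right hp.out.one_lt] at hlt
  rw [hi, hE.card_inf h hp3 hn]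
  exact Nat.pow_le_pow_right hp.out.pos (by omega)

theorem S3.exists_gen (hE : S3 p E) : ∃ e ∈ E, e ∉ P X 2 ∧ ∀ x ∈ E, ∃ k : ℤ, ∃ w ∈ E ⊓ P X 2, x = w * e ^ k := by
  obtain ⟨e, he, he2⟩ := SetLike.not_le_iff_exists.1 (hE.not_le_two h hp3 hn)
  refine ⟨e, he, he2, fun x hx => ?_⟩
  have hle : (E ⊓ P X 2) ⊔ Subgroup.zpowers e ≤ E := sup_le inf_le_left (Subgroup.zpowers_le.2 he)
  have heq : (E ⊓ P X 2) ⊔ Subgroup.zpowers e = E := by
    refine Subgroup.eq_of_le_of_card_ge hle ?_
    obtain ⟨i, -, hi⟩ := (Nat.dvd_prime_pow hp.out).1 (hE.card ▸ Subgroup.card_dvd_of_le hle)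
    have hlt : Nat.card (E ⊓ P X 2 : Subgroup X) < Nat.card ((E ⊓ P X 2) ⊔ Subgroup.zpowers e : Subgroup X) :=
      lt_of_le_of_ne (Subgroup.card_le_of_le le_sup_left) fun hc => he2
        ((Subgroup.eq_of_le_of_card_ge (le_sup_left : E ⊓ P X 2 ≤ _) hc.ge).symm ▸
          Subgroup.mem_sup_right (Subgroup.mem_zpowers e)).2
    rw [hE.card_inf h hp3 hn, hi, Nat.pow_lt_pow_iff_right hp.out.one_lt] at hlt
    rw [hE.card, hi]
    exact Nat.pow_le_pow_right hp.out.pos (by omega)
  let Q : Subgroup X :=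
    { carrier := {x | ∃ k : ℤ, ∃ w ∈ E ⊓ P X 2, x = w * e ^ k}
      one_mem' := ⟨0, 1, one_mem _, by simp⟩
      mul_mem' := by
        rintro _ _ ⟨k, w, hw, rfl⟩ ⟨l, v, hv, rfl⟩
        refine ⟨k + l, w * v, mul_mem hw hv, ?_⟩
        have : Commute (e ^ k) v := (Commute.zpow_left (hE.comm e he v hv.1) k)
        rw [zpow_add, mul_assoc w, ← mul_assoc (e ^ k), this.eq, mul_assoc, ← mul_assoc w]
      inv_mem' := by
        rintro _ ⟨k, w, hw, rfl⟩
        refine ⟨-k, w⁻¹, inv_mem hw, ?_⟩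
        have : Commute (e ^ (-k)) w⁻¹ := Commute.zpow_left (hE.comm e he w⁻¹ (inv_mem hw.1)) _
        rw [mul_inv_rev, ← zpow_neg, this.eq] }
  have hQ : (E ⊓ P X 2) ⊔ Subgroup.zpowers e ≤ Q :=
    sup_le (fun w hw => ⟨0, w, hw, by simp⟩) (Subgroup.zpowers_le.2 ⟨1, 1, one_mem _, by simp⟩)
  exact hQ (heq.ge hx)

/-- `P j` with `j ≥ 3` centralises `P (n - 3)`. -/
theorem comm_high {j : ℕ} (hj : 3 ≤ j) {a b : X} (ha : a ∈ P X j) (hb : b ∈ P X (n - 3)) : Commute a b :=
  commutatorElement_eq_one_iff_commute.1 (h.eq_one (by omega) (comm_le (by omega) (by omega) ha hb))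

/-- If `E ≤ M (n - 2)` then `W = P (n - 2)`. -/
theorem S3.inf_eq_Z2 (hE : S3 p E) (hM : E ≤ M X (n - 2)) : E ⊓ P X 2 = P X (n - 2) :=
  (Subgroup.eq_of_le_of_card_ge (le_inf (hE.toBase.Z2_le_of_M h hp3 hn hM) (P_anti (by omega))) (by
    rw [hE.card_inf h hp3 hn, h.card_P (by omega) (by omega), show n - (n - 2) = 2 by omega])).symm

end

end Cfsg.Agent.Lib.Soft3
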