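import Cfsg.Agent.Lib.FusionEssential.LineStab

/-!
Abelian essential subgroups of order `p ^ 3`: at most `p` automorphisms are induced by the base, and then a
transvection among them gives an involution of the automizer commuting with them.

Owner: helper78.
-/

set_option autoImplicit false
set_option linter.style.haveILetI false
set_option linter.unusedSectionVars false

namespace Cfsg.Agent.Lib.Soft3

open Cfsg Cfsg.FusionSystem Cfsg.Agent.Lib Cfsg.Agent.Lib.FS
open Cfsg.Agent.Lib.FusionEssential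

variable {Ω : Type*} [Group Ω] {S : Subgroup Ω} [Finite S] {p : ℕ} [hp : Fact p.Prime] {F : FusionSystem S}
  {E : Subgroup Ω}

/-- A nontrivial automorphism fixing `W` pointwise and moving inside `W`-cosets, as a transvection. -/
structure Transvection (W L : Subgroup E) (v : MulAut E) : Prop where
  fix : ∀ w ∈ W, v w = w
  diff : ∀ x, x⁻¹ * v x ∈ L
  le : L ≤ W
  card : Nat.card L = p

/-- The moved subgroup of `v`. -/
theorem exists_transvection (hab : ∀ x y : E, x * y = y * x) [Finite E] (hc : Nat.card E = p ^ 3)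
    {W : Subgroup E} (hW : Nat.card W = p ^ 2) {v : MulAut E} (hv1 : v ≠ 1) (hvW : ∀ w ∈ W, v w = w)
    (hvd : ∀ x, x⁻¹ * v x ∈ W) :
    ∃ L : Subgroup E, Transvection (p := p) W L v ∧ (∀ x, v x = x → x ∈ W) ∧
      ∀ l ∈ L, ∃ x, x⁻¹ * v x = l := by
  let f : E →* E := MonoidHom.mk' (fun x => x⁻¹ * v x) fun x y => by
    rw [map_mul, mul_inv_rev, hab y⁻¹ x⁻¹]
    rw [mul_assoc, mul_assoc, ← mul_assoc y⁻¹, hab y⁻¹ (v x), mul_assoc]
  have hker : W ≤ f.ker := fun w hw => by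
    show w⁻¹ * v w = 1
    rw [hvW w hw, inv_mul_cancel]
  have hne : f.ker ≠ ⊤ := fun h => hv1 <| MulEquiv.ext fun x => by
    have : x⁻¹ * v x = 1 := (h.symm ▸ Subgroup.mem_top x : x ∈ f.ker)
    exact (inv_mul_eq_one.1 this).symm
  have hWidx : W.index = p := by
    have := W.card_mul_index
    rw [hW, hc] at this
    exact Nat.eq_of_mul_eq_mul_left (pow_pos hp.out.pos 2) (this.trans (pow_succ p 2))
  have hkidx : f.ker.index = p := by
    have h1 := Subgroup.index_dvd_of_le hker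
    rw [hWidx] at h1
    exact ((Nat.dvd_prime hp.out).1 h1).resolve_left fun h2 => hne (Subgroup.index_eq_one.1 h2)
  have hkW : W = f.ker := by
    refine Subgroup.eq_of_le_of_card_ge hker (le_of_eq ?_)
    refine Nat.eq_of_mul_eq_mul_right hp.out.pos ?_
    calc Nat.card f.ker * p = Nat.card E := by rw [← hkidx, Subgroup.card_mul_index]
      _ = Nat.card W * p := by rw [← hWidx, Subgroup.card_mul_index]
  refine ⟨f.range, ⟨hvW, fun x => ⟨x, rfl⟩, ?_, ?_⟩, fun x hx => ?_, fun l hl => hl⟩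
  · rintro _ ⟨x, rfl⟩; exact hvd x
  · rw [← Subgroup.index_ker, hkidx]
  · rw [hkW]
    show x⁻¹ * v x = 1
    rw [hx, inv_mul_cancel]

theorem Transvection.mem_lineStab {W L : Subgroup E} {v : MulAut E} (h : Transvection (p := p) W L v)
    (hv : v ∈ F.autGroup E) : v ∈ LineStab.lineStab F E L :=
  ⟨hv, fun _ hz => h.fix _ (h.le hz), h.diff⟩

/-- Outside the strongly embedded subgroup `M` the moved line leaves `W`. -/
theorem moved_notMem (hS : IsPGroup p S) (hF : F.IsSaturated p) (hess : F.IsEssential p E)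
    (hab : ∀ x y : E, x * y = y * x) {M : Subgroup (MulAut E)}
    (hM : ∀ a ∈ F.autGroup E, ∀ u ∈ autInducedBy S E, u ∉ Inn E → a * u * a⁻¹ ∈ autInducedBy S E → a ∈ M)
    {W L : Subgroup E} {v : MulAut E} (hv : v ∈ autInducedBy S E) (hv1 : v ≠ 1)
    (ht : Transvection (p := p) W L v) {l : E} (hl : l ∈ L) (hl1 : l ≠ 1) {g : MulAut E} (hg : g ∈ F.autGroup E)
    (hgM : g ∉ M) : g l ∉ W := by
  haveI := finite_sub hess.2.1.1
  intro hlW
  refine LineStab.not_fixed_of_moving hS hF hess hab hM (Z := L) hv hv1 hv hv1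
    (ht.mem_lineStab (autInducedBy_le_autGroup F hess.2.1.1 hv)) hg hgM ?_
  rintro _ ⟨z, hz, rfl⟩
  refine ht.fix _ ?_
  have hgen : Subgroup.zpowers (⟨l, hl⟩ : L) = ⊤ :=
    zpowers_eq_top_of_prime_card ht.card fun h => hl1 (congrArg Subtype.val h)
  obtain ⟨i, hi⟩ := Subgroup.mem_zpowers_iff.1 (hgen ▸ Subgroup.mem_top (⟨z, hz⟩ : L))
  rw [show z = l ^ i from (congrArg Subtype.val hi).symm]
  show g (l ^ i) ∈ W
  rw [map_zpow]
  exact W.zpow_mem hlW i

/-- At most `p` automorphisms are induced by the base. -/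
theorem card_autInducedBy_lt (hS : IsPGroup p S) (hF : F.IsSaturated p) (hess : F.IsEssential p E)
    (hab : ∀ x y : E, x * y = y * x) (hc : Nat.card E = p ^ 3) {Z W : Subgroup E} (hZ : Nat.card Z = p)
    (hZW : Z ≤ W) (hW : Nat.card W = p ^ 2) (hUZ : ∀ u ∈ autInducedBy S E, ∀ z ∈ Z, u z = z)
    (hUW : ∀ u ∈ autInducedBy S E, ∀ w ∈ W, w⁻¹ * u w ∈ Z)
    (hUE : ∀ u ∈ autInducedBy S E, ∀ x, x⁻¹ * u x ∈ W) :
    Nat.card (autInducedBy S E) < p ^ 2 := by
  have hES := hess.2.1.1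
  haveI := finite_sub hES
  haveI : Finite (MulAut E) := Finite.of_injective (fun f => (f : E → E)) DFunLike.coe_injective
  by_contra hU
  push Not at hU
  set U := autInducedBy S E with hUdef
  obtain ⟨w₀, hw₀, hw₀Z⟩ : ∃ w ∈ W, w ∉ Z := SetLike.exists_of_lt (lt_of_le_of_ne hZW fun h => by
    rw [h, hW] at hZ
    nlinarith [hp.out.two_le])
  let θ : U →* Z :=
    { toFun := fun u => ⟨w₀⁻¹ * (u : MulAut E) w₀, hUW _ u.2 _ hw₀⟩
      map_one' := Subtype.ext (inv_mul_cancel w₀)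
      map_mul' := fun u w => Subtype.ext (by
        have h1 := hUZ _ u.2 _ (hUW _ w.2 _ hw₀)
        rw [map_mul, map_inv] at h1
        show w₀⁻¹ * (u : MulAut E) ((w : MulAut E) w₀) = w₀⁻¹ * (u : MulAut E) w₀ * (w₀⁻¹ * (w : MulAut E) w₀)
        rw [← h1]; group) }
  obtain ⟨v, hvk, hv1⟩ : ∃ v ∈ θ.ker, v ≠ 1 := by
    refine θ.ker.bot_or_exists_ne_one.resolve_left fun h => ?_
    have := Nat.card_le_card_of_injective θ ((MonoidHom.ker_eq_bot_iff θ).1 h)
    rw [hZ] at this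
    nlinarith [hp.out.two_le]
  have hv1' : (v : MulAut E) ≠ 1 := fun h => hv1 (Subtype.ext h)
  -- `v` fixes `W`
  have hfixW : ∀ w ∈ W, (v : MulAut E) w = w := by
    have hle : W ≤ (MonoidHom.eqLocus (v : MulAut E).toMonoidHom (MonoidHom.id E)) ⊓ W := by
      refine (Subgroup.eq_of_le_of_card_ge inf_le_right ?_).ge
      obtain ⟨k, -, hk⟩ := (Nat.dvd_prime_pow hp.out).1 (hW ▸ Subgroup.card_dvd_of_le
        (inf_le_right : MonoidHom.eqLocus (v : MulAut E).toMonoidHom (MonoidHom.id E) ⊓ W ≤ W))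
      have hlt : Z < MonoidHom.eqLocus (v : MulAut E).toMonoidHom (MonoidHom.id E) ⊓ W := by
        refine lt_of_le_of_ne (le_inf (fun z hz => hUZ _ v.2 z hz) hZW) fun h => hw₀Z ?_
        exact h ▸ ⟨(inv_mul_eq_one.1 (congrArg Subtype.val hvk)).symm, hw₀⟩
      have h2 : Nat.card Z < Nat.card (MonoidHom.eqLocus (v : MulAut E).toMonoidHom (MonoidHom.id E) ⊓ W :
          Subgroup E) := lt_of_le_of_ne (Subgroup.card_le_of_le hlt.le) fun h =>
        hlt.ne (Subgroup.eq_of_le_of_card_ge hlt.le h.ge)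
      rw [hZ, hk] at h2
      rw [hW, hk]
      refine Nat.pow_le_pow_right hp.out.pos ?_
      by_contra h3
      have := Nat.pow_le_pow_right hp.out.pos (show k ≤ 1 by omega)
      rw [pow_one] at this
      omega
    exact fun w hw => (hle hw).1
  obtain ⟨L, ht, -, -⟩ := exists_transvection hab hc hW hv1' hfixW (hUE _ v.2)
  obtain ⟨M, ⟨g, hg, hgM⟩, hUM, hM, -⟩ := FusionEssential.exists_data hS hF hess
  obtain ⟨l, hl, hl1⟩ : ∃ l ∈ L, l ≠ 1 := by
    refine L.bot_or_exists_ne_one.resolve_left fun h => ?_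
    have := ht.card
    rw [h, Subgroup.card_bot] at this
    exact hp.out.one_lt.ne this
  have key := fun (a : MulAut E) (ha : a ∈ F.autGroup E) (haM : a ∉ M) =>
    moved_notMem hS hF hess hab hM v.2 hv1' ht hl hl1 ha haM
  set z' := g l with hz'
  have hz'W : z' ∉ W := key g hg hgM
  -- no nontrivial induced automorphism fixes `z'`
  have hfree : ∀ u ∈ U, u z' = z' → u = 1 := by
    intro u hu hfix
    by_contra hu1
    refine LineStab.not_fixed_of_moving hS hF hess hab hM (Z := L) hu hu1 v.2 hv1'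
      (ht.mem_lineStab (autInducedBy_le_autGroup F hES v.2)) hg hgM ?_
    rintro _ ⟨z, hz, rfl⟩
    have hgen : Subgroup.zpowers (⟨l, hl⟩ : L) = ⊤ :=
      zpowers_eq_top_of_prime_card ht.card fun h => hl1 (congrArg Subtype.val h)
    obtain ⟨i, hi⟩ := Subgroup.mem_zpowers_iff.1 (hgen ▸ Subgroup.mem_top (⟨z, hz⟩ : L))
    rw [show z = l ^ i from (congrArg Subtype.val hi).symm]
    show u (g (l ^ i)) = g (l ^ i)
    rw [map_zpow, map_zpow, hfix]
  let f : U → W := fun u => ⟨z'⁻¹ * (u : MulAut E) z', hUE _ u.2 _⟩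
  have hinj : Function.Injective f := by
    intro a b hab'
    have h1 : (a : MulAut E) z' = (b : MulAut E) z' := mul_left_cancel (congrArg Subtype.val hab')
    have h2 := hfree ((a : MulAut E)⁻¹ * b) (mul_mem (inv_mem a.2) b.2) (by
      rw [MulAut.mul_apply, ← h1, MulAut.inv_apply_self])
    exact Subtype.ext (inv_mul_eq_one.1 h2)
  have hsurj : Function.Surjective f :=
    (Function.Injective.bijective_of_nat_card_le hinj (by rw [hW]; exact hU)).2
  obtain ⟨c, hcW, hcg, hc1⟩ : ∃ c ∈ W, c ∈ W.map g.toMonoidHom ∧ c ≠ 1 := by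
    set A := W.map g.toMonoidHom with hA
    have hAc : Nat.card A = p ^ 2 := by rw [hA, Subgroup.card_map_of_injective g.injective, hW]
    by_contra hne
    push Not at hne
    have hinj2 : Function.Injective (fun q : W × A => (q.1 : E) * q.2) := by
      intro q r h
      replace h : (q.1 : E) * q.2 = r.1 * r.2 := h
      have h1 : (r.1 : E)⁻¹ * q.1 = (r.2 : E) * (q.2 : E)⁻¹ :=
        calc (r.1 : E)⁻¹ * q.1 = (r.1 : E)⁻¹ * ((q.1 : E) * q.2) * (q.2 : E)⁻¹ := by group
          _ = (r.1 : E)⁻¹ * ((r.1 : E) * r.2) * (q.2 : E)⁻¹ := by rw [h]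
          _ = _ := by group
      have h2 : (r.1 : E)⁻¹ * q.1 = 1 :=
        hne _ (mul_mem (inv_mem r.1.2) q.1.2) (h1 ▸ mul_mem r.2.2 (inv_mem q.2.2))
      rw [h2, eq_comm, mul_inv_eq_one] at h1
      exact Prod.ext (Subtype.ext (inv_mul_eq_one.1 h2).symm) (Subtype.ext h1.symm)
    have := Nat.card_le_card_of_injective _ hinj2
    rw [Nat.card_prod, hW, hAc, hc, ← pow_add, Nat.pow_le_pow_iff_right hp.out.one_lt] at this
    omega
  obtain ⟨u, hu⟩ := hsurj ⟨c, hcW⟩
  have hu' : z'⁻¹ * (u : MulAut E) z' = c := congrArg Subtype.val hu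
  have hu1 : (u : MulAut E) ≠ 1 := fun h => hc1 (by rw [← hu', h]; simp)
  set k := g⁻¹ * (u : MulAut E) * g with hk
  have hkA : k ∈ F.autGroup E := mul_mem (mul_mem (inv_mem hg) (autInducedBy_le_autGroup F hES u.2)) hg
  have hkM : k ∈ M := by
    by_contra hkM
    refine key k hkA hkM ?_
    obtain ⟨w, hw, hwc⟩ := hcg
    show g⁻¹ ((u : MulAut E) (g l)) ∈ W
    rw [← hz', show (u : MulAut E) z' = z' * c by rw [← hu', mul_inv_cancel_left], ← hwc, hz']
    show g⁻¹ (g l * g w) ∈ W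
    rw [← map_mul, MulAut.inv_apply_self]
    exact mul_mem (ht.le hl) hw
  -- a Sylow subgroup of the automizer inside `M`
  obtain ⟨R, hR⟩ := (fullyAutomized_of_fullyNormalized hS hF hess.2.1).2
  have hUA : U ≤ F.autGroup E := autInducedBy_le_autGroup F hES
  have hUMA : U ≤ M ⊓ F.autGroup E := le_inf hUM hUA
  obtain ⟨R', hR'⟩ : ∃ R' : Sylow p (M ⊓ F.autGroup E : Subgroup (MulAut E)),
      (R' : Subgroup (M ⊓ F.autGroup E : Subgroup (MulAut E))) = U.subgroupOf (M ⊓ F.autGroup E) := by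
    obtain ⟨R', hle⟩ := ((isPGroup_autInducedBy hS E).of_equiv
      (Subgroup.subgroupOfEquivOfLe hUMA).symm).exists_le_sylow
    refine ⟨R', le_antisymm (fun x hx => ?_) hle⟩
    have hp' : IsPGroup p ((R' : Subgroup _).map (Subgroup.inclusion (inf_le_right : M ⊓ F.autGroup E ≤ F.autGroup E))) := R'.2.map _
    have hle' : (R : Subgroup (F.autGroup E)) ≤ (R' : Subgroup _).map (Subgroup.inclusion (inf_le_right : M ⊓ F.autGroup E ≤ F.autGroup E)) := by
      intro y hy
      rw [hR, Subgroup.mem_subgroupOf] at hy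
      exact ⟨⟨y, hUMA hy⟩, hle (Subgroup.mem_subgroupOf.2 hy), rfl⟩
    have he := R.3 hp' hle'
    have : Subgroup.inclusion (inf_le_right : M ⊓ F.autGroup E ≤ F.autGroup E) x ∈ (R : Subgroup (F.autGroup E)) :=
      he ▸ Subgroup.mem_map_of_mem _ hx
    rw [hR, Subgroup.mem_subgroupOf] at this
    exact Subgroup.mem_subgroupOf.2 this
  have hkp : IsPGroup p (Subgroup.zpowers k) := by
    intro ⟨x, hx⟩
    obtain ⟨i, rfl⟩ := Subgroup.mem_zpowers_iff.1 hx
    obtain ⟨m, hm⟩ := isPGroup_autInducedBy hS E (u ^ i)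
    refine ⟨m, Subtype.ext ?_⟩
    show (k ^ i) ^ p ^ m = 1
    have hm' : ((u : MulAut E) ^ i) ^ p ^ m = 1 := by
      have := congrArg (Subgroup.subtype _) hm
      simpa using this
    rw [hk, show g⁻¹ * (u : MulAut E) * g = MulAut.conj g⁻¹ (u : MulAut E) by simp, ← map_zpow, ← map_pow, hm',
      map_one]
  obtain ⟨d, ⟨hdM, hdA⟩, hd⟩ := exists_conj_le_sylow R' hR' (Subgroup.zpowers_le.2 (⟨hkM, hkA⟩ : k ∈ M ⊓ F.autGroup E)) hkp
  have h1 := hM (d * g⁻¹) (mul_mem hdA (inv_mem hg)) u u.2 (by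
      rw [LineStab.inn_eq_bot hab, Subgroup.mem_bot]; exact hu1) (by
      have := hd k (Subgroup.mem_zpowers k)
      rwa [hk, show d * (g⁻¹ * (u : MulAut E) * g) * d⁻¹ = d * g⁻¹ * (u : MulAut E) * (d * g⁻¹)⁻¹ by group] at this)
  refine hgM (inv_mem_iff.1 ?_)
  have := M.mul_mem (M.inv_mem hdM) h1
  rwa [inv_mul_cancel_left] at this

/-- The central involution of the group generated by two opposite transvections. -/
theorem exists_involution (hS : IsPGroup p S) (hF : F.IsSaturated p) (hess : F.IsEssential p E)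
    (hab : ∀ x y : E, x * y = y * x) (hc : Nat.card E = p ^ 3) {W : Subgroup E} (hW : Nat.card W = p ^ 2)
    (hU : Nat.card (autInducedBy S E) = p)
    (hUW : ∀ u ∈ autInducedBy S E, ∀ w ∈ W, u w = w)
    (hUE : ∀ u ∈ autInducedBy S E, ∀ x, x⁻¹ * u x ∈ W) :
    ∃ σ ∈ F.autGroup E, (∀ u ∈ autInducedBy S E, σ * u = u * σ) ∧
      (∀ u ∈ autInducedBy S E, ∀ x, σ (x⁻¹ * u x) = (x⁻¹ * u x)⁻¹) ∧
      (∀ w ∈ W, ∃ u ∈ autInducedBy S E, ∃ x, w⁻¹ * σ w = x⁻¹ * u x) ∧
      ∀ x, x * σ x ∈ W := by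
  have hES := hess.2.1.1
  haveI := finite_sub hES
  haveI : Finite (MulAut E) := Finite.of_injective (fun f => (f : E → E)) DFunLike.coe_injective
  set U := autInducedBy S E with hUdef
  obtain ⟨v, hv, hv1⟩ : ∃ v ∈ U, v ≠ 1 := by
    refine U.bot_or_exists_ne_one.resolve_left fun h => ?_
    rw [h, Subgroup.card_bot] at hU
    exact hp.out.one_lt.ne hU
  obtain ⟨L, ht, hfixset, hLv⟩ := exists_transvection hab hc hW hv1 (hUW v hv) (hUE v hv)
  obtain ⟨M, ⟨g, hg, hgM⟩, -, hM, -⟩ := FusionEssential.exists_data hS hF hess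
  obtain ⟨l₀, hl₀, hl₀1⟩ : ∃ l ∈ L, l ≠ 1 := by
    refine L.bot_or_exists_ne_one.resolve_left fun h => ?_
    have := ht.card
    rw [h, Subgroup.card_bot] at this
    exact hp.out.one_lt.ne this
  have key := fun {l : E} (hl : l ∈ L) (hl1 : l ≠ 1) {a : MulAut E} (ha : a ∈ F.autGroup E) (haM : a ∉ M) =>
    moved_notMem hS hF hess hab hM hv hv1 ht hl hl1 ha haM
  obtain ⟨z', hz'⟩ : ∃ z', g l₀ = z' := ⟨_, rfl⟩
  have hz'W : z' ∉ W := hz' ▸ key hl₀ hl₀1 hg hgM
  obtain ⟨z, hz⟩ : ∃ z, z'⁻¹ * v z' = z := ⟨_, rfl⟩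
  have hzL : z ∈ L := hz ▸ ht.diff z'
  have hz1 : z ≠ 1 := fun h => hz'W (hfixset z' (inv_mul_eq_one.1 (hz.trans h)).symm)
  have hgz : g⁻¹ z ∉ W := key hzL hz1 (inv_mem hg) fun h => hgM (inv_mem_iff.1 h)
  have hgen : ∀ {l : E}, l ∈ L → l ≠ 1 → ∀ x ∈ L, ∃ i : ℤ, l ^ i = x := by
    intro l hl hl1 x hx
    have hgen : Subgroup.zpowers (⟨l, hl⟩ : L) = ⊤ :=
      zpowers_eq_top_of_prime_card ht.card fun h => hl1 (congrArg Subtype.val h)
    obtain ⟨i, hi⟩ := Subgroup.mem_zpowers_iff.1 (hgen ▸ Subgroup.mem_top (⟨x, hx⟩ : L))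
    exact ⟨i, congrArg Subtype.val hi⟩
  -- the opposite transvection
  have hd0 : z⁻¹ * (g * v * g⁻¹ : MulAut E) z = g ((g⁻¹ z)⁻¹ * v (g⁻¹ z)) := by
    rw [map_mul, map_inv, MulAut.apply_inv_self]; rfl
  obtain ⟨m, hm⟩ := hgen hl₀ hl₀1 _ (ht.diff (g⁻¹ z))
  have hmp : ¬ (p : ℤ) ∣ m := fun hd => hgz (hfixset _ (by
    have h1 : l₀ ^ m = 1 := by
      obtain ⟨q, rfl⟩ := hd
      have : l₀ ^ p = 1 := by
        have := congrArg Subtype.val (pow_card_eq_one' (x := (⟨l₀, hl₀⟩ : L)))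
        simpa [ht.card] using this
      rw [zpow_mul, zpow_natCast, this, one_zpow]
    exact (inv_mul_eq_one.1 (hm.symm.trans h1)).symm))
  obtain ⟨k, q, hkq⟩ : ∃ k q : ℤ, k * m + q * p = -1 := by
    have hco : IsCoprime (p : ℤ) m := (Nat.prime_iff_prime_int.1 hp.out).coprime_iff_not_dvd.2 hmp
    obtain ⟨x, y, hxy⟩ := hco
    exact ⟨-y, -x, by linear_combination -hxy⟩
  obtain ⟨b, hb⟩ : ∃ b : MulAut E, (g * v * g⁻¹) ^ k = b := ⟨_, rfl⟩
  have hbA : b ∈ F.autGroup E := hb ▸ zpow_mem (mul_mem (mul_mem hg (autInducedBy_le_autGroup F hES hv)) (inv_mem hg)) k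
  obtain ⟨c, hcW, hcg, hc1⟩ : ∃ c ∈ W, g⁻¹ c ∈ W ∧ c ≠ 1 := by
    set A := W.map g.toMonoidHom with hA
    have hAc : Nat.card A = p ^ 2 := by rw [hA, Subgroup.card_map_of_injective g.injective, hW]
    by_contra hne
    push Not at hne
    have hne' : ∀ c ∈ W, c ∈ A → c = 1 := by
      rintro c hc ⟨w, hw, rfl⟩
      exact hne (g w) hc (by rwa [MulAut.inv_apply_self])
    have hinj2 : Function.Injective (fun q : W × A => (q.1 : E) * q.2) := by
      intro q r h
      replace h : (q.1 : E) * q.2 = r.1 * r.2 := h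
      have h1 : (r.1 : E)⁻¹ * q.1 = (r.2 : E) * (q.2 : E)⁻¹ :=
        calc (r.1 : E)⁻¹ * q.1 = (r.1 : E)⁻¹ * ((q.1 : E) * q.2) * (q.2 : E)⁻¹ := by group
          _ = (r.1 : E)⁻¹ * ((r.1 : E) * r.2) * (q.2 : E)⁻¹ := by rw [h]
          _ = _ := by group
      have h2 : (r.1 : E)⁻¹ * q.1 = 1 :=
        hne' _ (mul_mem (inv_mem r.1.2) q.1.2) (h1 ▸ mul_mem r.2.2 (inv_mem q.2.2))
      rw [h2, eq_comm, mul_inv_eq_one] at h1
      exact Prod.ext (Subtype.ext (inv_mul_eq_one.1 h2).symm) (Subtype.ext h1.symm)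
    have := Nat.card_le_card_of_injective _ hinj2
    rw [Nat.card_prod, hW, hAc, hc, ← pow_add, Nat.pow_le_pow_iff_right hp.out.one_lt] at this
    omega
  have hcL : c ∉ L := fun hcL => key hcL hc1 (inv_mem hg) (fun h => hgM (inv_mem_iff.1 h)) hcg
  -- values on the generators
  have hbfix : ∀ x, g⁻¹ x ∈ W → b x = x := by
    intro x hx
    have h0 : (g * v * g⁻¹) ∈ MulAction.stabilizer (MulAut E) x := by
      show g (v (g⁻¹ x)) = x
      rw [ht.fix _ hx, MulAut.apply_inv_self]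
    exact hb ▸ zpow_mem h0 k
  have hbz' : b z' = z' := hbfix z' (by rw [← hz', MulAut.inv_apply_self]; exact ht.le hl₀)
  have hbc : b c = c := hbfix c hcg
  have hbz : b z = z * z'⁻¹ := by
    have hzpow : ∀ k : ℤ, ((g * v * g⁻¹) ^ k) z = z * z' ^ (m * k) := by
      have h1 : (g * v * g⁻¹ : MulAut E) z = z * z' ^ m := by
        rw [← hz', ← map_zpow, hm, ← hd0, mul_inv_cancel_left]
      have h2 : (g * v * g⁻¹ : MulAut E) z' = z' := by
        rw [← hz']
        show g (v (g⁻¹ (g l₀))) = g l₀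
        rw [MulAut.inv_apply_self, ht.fix _ (ht.le hl₀)]
      intro k
      induction k using Int.induction_on with
      | zero => simp
      | succ k ih => rw [zpow_add_one, MulAut.mul_apply, h1, map_mul, ih, map_zpow,
          show ((g * v * g⁻¹) ^ (k : ℤ)) z' = z' from zpow_mem (show (g * v * g⁻¹) ∈ MulAction.stabilizer (MulAut E) z' from h2) _,
          mul_assoc, ← zpow_add, mul_add, mul_one]
      | pred k ih =>
        apply (g * v * g⁻¹ : MulAut E).injective
        rw [← MulAut.mul_apply, ← zpow_one_add, show (1 : ℤ) + (-(k : ℤ) - 1) = -(k : ℤ) by omega, ih, map_mul, h1,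
          map_zpow, h2, mul_assoc, ← zpow_add]
        congr 2; ring
    have hz'p : z' ^ p = 1 := by
      rw [← hz', ← map_pow]
      have : l₀ ^ p = 1 := by
        have := congrArg Subtype.val (pow_card_eq_one' (x := (⟨l₀, hl₀⟩ : L)))
        simpa [ht.card] using this
      rw [this, map_one]
    rw [← hb, hzpow, show m * k = -1 + (p : ℤ) * (-q) by linear_combination hkq, zpow_add, zpow_mul, zpow_natCast,
      hz'p, one_zpow, mul_one, zpow_neg_one]
  have hvz : v z = z := ht.fix z (ht.le hzL)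
  have hvc : v c = c := ht.fix c hcW
  have hvz' : v z' = z' * z := by rw [← hz, mul_inv_cancel_left]
  -- generators
  have hext : ∀ α β : MulAut E, α z = β z → α z' = β z' → α c = β c → α = β := by
    intro α β h1 h2 h3
    refine MulEquiv.ext fun x => ?_
    let K := MonoidHom.eqLocus α.toMonoidHom β.toMonoidHom
    suffices K = ⊤ from (this.symm ▸ Subgroup.mem_top x : x ∈ K)
    have hWK : W ≤ K := by
      have hle : L ⊔ Subgroup.zpowers c ≤ W := sup_le ht.le (Subgroup.zpowers_le.2 hcW)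
      have heq : L ⊔ Subgroup.zpowers c = W := by
        refine Subgroup.eq_of_le_of_card_ge hle ?_
        obtain ⟨i, -, hi⟩ := (Nat.dvd_prime_pow hp.out).1 (hW ▸ Subgroup.card_dvd_of_le hle)
        have hlt : Nat.card L < Nat.card (L ⊔ Subgroup.zpowers c : Subgroup E) :=
          lt_of_le_of_ne (Subgroup.card_le_of_le le_sup_left) fun h => hcL
            ((Subgroup.eq_of_le_of_card_ge (le_sup_left : L ≤ L ⊔ Subgroup.zpowers c) h.ge).symm ▸
              Subgroup.mem_sup_right (Subgroup.mem_zpowers c))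
        rw [ht.card, hi] at hlt
        rw [hW, hi]
        refine Nat.pow_le_pow_right hp.out.pos ?_
        by_contra h3
        have := Nat.pow_le_pow_right hp.out.pos (show i ≤ 1 by omega)
        rw [pow_one] at this
        omega
      rw [← heq, sup_le_iff]
      refine ⟨fun x hx => ?_, Subgroup.zpowers_le.2 h3⟩
      obtain ⟨i, rfl⟩ := hgen hzL hz1 x hx
      exact zpow_mem h1 i
    have hWidx : W.index = p := by
      have := W.card_mul_index
      rw [hW, hc] at this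
      exact Nat.eq_of_mul_eq_mul_left (pow_pos hp.out.pos 2) (this.trans (pow_succ p 2))
    have hd := Subgroup.index_dvd_of_le hWK
    rw [hWidx] at hd
    rcases (Nat.dvd_prime hp.out).1 hd with h4 | h4
    · exact Subgroup.index_eq_one.1 h4
    · exfalso
      refine hz'W ?_
      have : W = K := Subgroup.eq_of_le_of_card_ge hWK (le_of_eq (Nat.eq_of_mul_eq_mul_right hp.out.pos (by
        calc Nat.card K * p = Nat.card E := by rw [← h4, Subgroup.card_mul_index]
          _ = Nat.card W * p := by rw [← hWidx, Subgroup.card_mul_index])))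
      exact this ▸ h2
  obtain ⟨σ, hσ⟩ : ∃ σ : MulAut E, (v * b * v) * (v * b * v) = σ := ⟨_, rfl⟩
  have hσA : σ ∈ F.autGroup E := by
    have hvA := autInducedBy_le_autGroup F hES hv
    exact hσ ▸ mul_mem (mul_mem (mul_mem hvA hbA) hvA) (mul_mem (mul_mem hvA hbA) hvA)
  have e1 : (v * b * v) z = z'⁻¹ := by
    show v (b (v z)) = _
    rw [hvz, hbz, map_mul, map_inv, hvz, hvz', hab z' z, mul_inv_rev, ← mul_assoc, hab z z'⁻¹, mul_inv_cancel_right]
  have e2 : (v * b * v) z' = z := by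
    show v (b (v z')) = _
    rw [hvz', map_mul, hbz', hbz, hab z z'⁻¹, mul_inv_cancel_left, hvz]
  have hσz : σ z = z⁻¹ := by rw [← hσ, MulAut.mul_apply, e1, map_inv, e2]
  have hσz' : σ z' = z'⁻¹ := by rw [← hσ, MulAut.mul_apply, e2, e1]
  have hσc : σ c = c := by
    rw [← hσ]; show v (b (v (v (b (v c))))) = c
    rw [hvc, hbc, hvc, hvc, hbc, hvc]
  have hσv : σ * v = v * σ := by
    refine hext _ _ ?_ ?_ ?_
    · rw [MulAut.mul_apply, MulAut.mul_apply, hvz, hσz, map_inv, hvz]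
    · rw [MulAut.mul_apply, MulAut.mul_apply, hvz', map_mul, hσz', hσz, map_inv, hvz', mul_inv_rev,
        hab z'⁻¹ z⁻¹]
    · rw [MulAut.mul_apply, MulAut.mul_apply, hvc, hσc, hvc]
  have hσL : ∀ x ∈ L, σ x = x⁻¹ := fun x hx => by
    obtain ⟨i, rfl⟩ := hgen hzL hz1 x hx
    rw [map_zpow, hσz, inv_zpow]
  have hUv : ∀ u ∈ U, ∃ i : ℤ, v ^ i = u := fun u hu => by
    have hgen : Subgroup.zpowers (⟨v, hv⟩ : U) = ⊤ :=
      zpowers_eq_top_of_prime_card hU fun h => hv1 (congrArg Subtype.val h)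
    obtain ⟨i, hi⟩ := Subgroup.mem_zpowers_iff.1 (hgen ▸ Subgroup.mem_top (⟨u, hu⟩ : U))
    exact ⟨i, congrArg Subtype.val hi⟩
  refine ⟨σ, hσA, fun u hu => ?_, fun u hu x => hσL _ ?_, fun w hw => ?_, ?_⟩
  · obtain ⟨i, rfl⟩ := hUv u hu
    exact (Commute.zpow_right hσv i).eq
  · obtain ⟨i, rfl⟩ := hUv u hu
    exact (zpow_mem (ht.mem_lineStab (autInducedBy_le_autGroup F hES hv)) i).2.2 x
  · -- `W = L ⊔ ⟨c⟩`
    let K : Subgroup E :=
      { carrier := {w | w⁻¹ * σ w ∈ L}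
        one_mem' := by simp
        mul_mem' := fun {a b} ha hb' => by
          show (a * b)⁻¹ * σ (a * b) ∈ L
          rw [map_mul, mul_inv_rev, hab b⁻¹ a⁻¹, show a⁻¹ * b⁻¹ * (σ a * σ b) = a⁻¹ * (b⁻¹ * σ a) * σ b by group,
            hab b⁻¹ (σ a), show a⁻¹ * (σ a * b⁻¹) * σ b = (a⁻¹ * σ a) * (b⁻¹ * σ b) by group]
          exact mul_mem ha hb'
        inv_mem' := fun {a} ha => by
          show a⁻¹⁻¹ * σ a⁻¹ ∈ L
          rw [map_inv, hab, inv_inv, show (σ a)⁻¹ * a = (a⁻¹ * σ a)⁻¹ by group]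
          exact inv_mem ha }
    have hle : L ⊔ Subgroup.zpowers c ≤ K := sup_le (fun x hx => by
      show x⁻¹ * σ x ∈ L
      rw [hσL x hx]; exact mul_mem (inv_mem hx) (inv_mem hx)) (Subgroup.zpowers_le.2 (by
      show c⁻¹ * σ c ∈ L
      rw [hσc, inv_mul_cancel]; exact one_mem _))
    have heq : L ⊔ Subgroup.zpowers c = W := by
      have hle : L ⊔ Subgroup.zpowers c ≤ W := sup_le ht.le (Subgroup.zpowers_le.2 hcW)
      refine Subgroup.eq_of_le_of_card_ge hle ?_
      obtain ⟨i, -, hi⟩ := (Nat.dvd_prime_pow hp.out).1 (hW ▸ Subgroup.card_dvd_of_le hle)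
      have hlt : Nat.card L < Nat.card (L ⊔ Subgroup.zpowers c : Subgroup E) :=
        lt_of_le_of_ne (Subgroup.card_le_of_le le_sup_left) fun h => hcL
          ((Subgroup.eq_of_le_of_card_ge (le_sup_left : L ≤ L ⊔ Subgroup.zpowers c) h.ge).symm ▸
            Subgroup.mem_sup_right (Subgroup.mem_zpowers c))
      rw [ht.card, hi] at hlt
      rw [hW, hi]
      refine Nat.pow_le_pow_right hp.out.pos ?_
      by_contra h3
      have := Nat.pow_le_pow_right hp.out.pos (show i ≤ 1 by omega)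
      rw [pow_one] at this
      omega
    obtain ⟨x, hx⟩ := hLv _ (hle (heq.ge hw))
    exact ⟨v, hv, x, hx.symm⟩
  · intro x
    let K : Subgroup E :=
      { carrier := {x | x * σ x ∈ W}
        one_mem' := by simp
        mul_mem' := fun {a b} ha hb' => by
          show a * b * σ (a * b) ∈ W
          rw [map_mul, show a * b * (σ a * σ b) = a * (b * σ a) * σ b by group, hab b (σ a),
            show a * (σ a * b) * σ b = (a * σ a) * (b * σ b) by group]
          exact mul_mem ha hb'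
        inv_mem' := fun {a} ha => by
          show a⁻¹ * σ a⁻¹ ∈ W
          rw [map_inv, hab, show (σ a)⁻¹ * a⁻¹ = (a * σ a)⁻¹ by group]
          exact inv_mem ha }
    suffices K = ⊤ from (this.symm ▸ Subgroup.mem_top x : x ∈ K)
    have hσW : ∀ w ∈ W, σ w ∈ W := fun w hw => hfixset _ (by
      rw [← MulAut.mul_apply, ← hσv, MulAut.mul_apply, ht.fix w hw])
    have hWK : W ≤ K := fun w hw => mul_mem hw (hσW w hw)
    have hlt : W < K := lt_of_le_of_ne hWK fun h => hz'W (h ▸ (by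
      show z' * σ z' ∈ W
      rw [hσz', mul_inv_cancel]; exact one_mem _))
    obtain ⟨i, hi3, hi⟩ := (Nat.dvd_prime_pow hp.out).1 (hc ▸ K.card_subgroup_dvd_card)
    refine Subgroup.eq_top_of_card_eq _ (hi.trans ?_)
    have h2 : Nat.card W < Nat.card K :=
      lt_of_le_of_ne (Subgroup.card_le_of_le hWK) fun h => hlt.ne (Subgroup.eq_of_le_of_card_ge hWK h.ge)
    rw [hW, hi, Nat.pow_lt_pow_iff_right hp.out.one_lt] at h2
    rw [hc, show i = 3 by omega]

end Cfsg.Agent.Lib.Soft3
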